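import Cfsg.Agent.H837.Width
import Cfsg.Agent.H831.Triple8
import Cfsg.Agent.H840.NormX
import Cfsg.Agent.FastGrp
import Cfsg.Agent.Prune
set_option linter.all false
prune_inst 0x7f00000000000000000000000000000000000000000000000000000000000000000000000000000000000000000000000000000000000000000000000000000000000000000000000000000000000000003fffffffffffffffffffffffffffbeffbdffffffff
open scoped Cfsg.Agent.FastGrp

/-!
# Type `M(23)`: isomorphisms with the presented `Fi23` (helper837)

* `exists_iso` : a group of type `M(23)` is isomorphic to `Fi23`, with `D` the image of the class of `z0`;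
* `exists_pair_iso` : a given ordered pair of non-commuting members of `D` is the image of `z0`, `j`.
-/

set_option autoImplicit false

namespace Cfsg.Agent.H837.Pair

open Cfsg Subgroup
open Cfsg.Agent.LThreeFi23
open Cfsg.Agent.Fischer.Fi23Z (z0)
open Cfsg.Agent.H837.Base23 Cfsg.Agent.H837.Width
open Cfsg.Spor (Fi23)

universe u

variable {G : Type u} [Group G] [Finite G] {D : Set G}

/-- **A group of type `M(23)` is isomorphic to the presented `Fi23`, `D` is the image of the class of `z0`.** -/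
theorem exists_iso (hD : Cfsg.IsThreeTranspositionGroup D) (hprim : Cfsg.IsPrimitiveUnderConj D)
    (h23 : Cfsg.IsOfTypeM23 G D) : ∃ e : Fi23 ≃* G, ∀ x, e x ∈ D ↔ IsConj z0 x := by
  obtain ⟨a, ha, -⟩ := hprim.2.1
  obtain ⟨e, -, he, -⟩ := Cfsg.Agent.H831.T7Iso.exists_iso (Cfsg.Agent.H831.Types.fgroup_m23 hD hprim h23)
    (Cfsg.Agent.H831.Types.isT7 hD hprim h23) ha
  exact ⟨e, he⟩

/-- `D` is the image of the class of `z0` -/
theorem image_eq {e : Fi23 ≃* G} (he : ∀ x, e x ∈ D ↔ IsConj z0 x) : D = e '' {x | IsConj z0 x} := by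
  ext y
  constructor
  · intro hy
    refine ⟨e.symm y, ?_, e.apply_symm_apply y⟩
    rw [Set.mem_setOf_eq, ← he, e.apply_symm_apply]
    exact hy
  · rintro ⟨x, hx, rfl⟩
    exact (he x).2 hx

/-- **A given pair of non-commuting members of `D` corresponds to `z0`, `j`.** -/
theorem exists_pair_iso (hD : Cfsg.IsThreeTranspositionGroup D) (hprim : Cfsg.IsPrimitiveUnderConj D)
    (h23 : Cfsg.IsOfTypeM23 G D) {a d : G} (ha : a ∈ D) (hd : d ∈ D) (hn : ¬ Commute a d) :
    ∃ e : Fi23 ≃* G, e (el .z) = a ∧ e (el .j) = d ∧ ∀ x, e x ∈ D ↔ IsConj z0 x := by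
  have F := Cfsg.Agent.H831.Types.fgroup_m23 hD hprim h23
  obtain ⟨e, he⟩ := exists_iso hD hprim h23
  have hz : e (el .z) ∈ D := (he _).2 (isConj_el .z)
  have hj : e (el .j) ∈ D := (he _).2 (isConj_el .j)
  have hzj : ¬ Commute (e (el .z)) (e (el .j)) := by
    intro h
    apply ncomm_zj
    have h1 : e (el .z * el .j) = e (el .j * el .z) := by rw [map_mul, map_mul]; exact h
    exact e.injective h1
  obtain ⟨g, hg1, hg2⟩ := Cfsg.Agent.H840.NormX.exists_conj F hz hj ha hd hzj hn
  refine ⟨e.trans (MulAut.conj g), hg1, hg2, fun x => ?_⟩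
  have hfd := Cfsg.Agent.H840.NormX.fd F
  rw [← he]
  constructor
  · intro h
    have h1 := hfd.conj g⁻¹ _ h
    have h2 : g⁻¹ * (e.trans (MulAut.conj g)) x * g⁻¹⁻¹ = e x := by
      show g⁻¹ * (g * e x * g⁻¹) * g⁻¹⁻¹ = e x
      group
    rwa [h2] at h1
  · intro h
    exact hfd.conj g _ h

end Cfsg.Agent.H837.Pair
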