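import Cfsg.Agent.LThreeFi23.ChkC
import Cfsg.Agent.Lib.PermNetFast
import Cfsg.Agent.FastGrp
import Cfsg.Agent.Prune
set_option linter.all false

section
prune_inst 0x7f00000000000000000000000000000000000000000000000000000000000000000000000000000000000000000000000000000000000000000000000000000000000000000000000000000000000000003fffffffffffffffffffffffffffbeffbdffffffff

-- part: LThreeFi23/PrimesC
section
set_option linter.all false
open scoped Cfsg.Agent.FastGrp

-- part: LThreeFi23/ChkB
section
/-! Kernel checks for the elements of order 11 of `Fi23` (helper48) -/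

set_option autoImplicit false
set_option Elab.async false
set_option maxRecDepth 100000

namespace Cfsg.Agent.LThreeFi23

open Cfsg.Agent.Lib.PermNet Cfsg.Agent.Lib.PermNetOrbit

private noncomputable def pimgP (pl : List ℕ) (p : ℕ) : ℕ :=
  Bool.rec (pimg pl p) (Nat.xor p (Cfsg.Agent.Lib.PermNetFast.look
    (Cfsg.Agent.Lib.PermNetFast.tab (fun b => pl.getD b 0) 15) p)) (Nat.beq pl.length 15)

private theorem pimg_bitsP (p : ℕ) : ∀ pl : List ℕ, pimg pl p < 2 ^ pl.length ∧
    ∀ b, (pl.getD b 0).testBit p = (pimg pl p).testBit b := by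
  intro pl
  induction pl with
  | nil => exact ⟨Nat.one_pos, fun b => by rw [pimg_nil, List.getD_nil, Nat.zero_testBit, Nat.zero_testBit]⟩
  | cons m pl ih =>
    rw [pimg_cons, List.length_cons, pow_succ]
    have h1 := ih.1
    refine ⟨by split_ifs <;> omega, fun b => ?_⟩
    cases b with
    | zero =>
      rw [List.getD_cons_zero, Nat.testBit_zero]
      cases m.testBit p
      · exact (decide_eq_false (by simp)).symm
      · exact (decide_eq_true (by simp [Nat.add_mod])).symm
    | succ b =>
      rw [List.getD_cons_succ, Nat.testBit_succ, ih.2 b]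
      congr 1
      split_ifs <;> omega

private theorem pimg_fastP : pimg = pimgP := by
  funext pl p
  unfold pimgP
  cases h : Nat.beq pl.length 15
  · rfl
  · have h1 := pimg_bitsP p pl
    rw [Nat.eq_of_beq_eq_true h] at h1
    show _ = p ^^^ _
    rw [Cfsg.Agent.Lib.PermNetFast.look_eq (by norm_num) h1.1 fun b _ => h1.2 b, Nat.xor_xor_cancel_left]

private noncomputable def failsP (f : List ℕ → ℕ → ℕ) (pl : List ℕ) (M : ℕ) (l : List Bool) : ℕ → Bool :=
  List.rec (motive := fun _ => ℕ → Bool) (fun _ => false)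
    (fun e _ ih q => Lib.PermNetPt.force (f pl q) fun q' =>
      Bool.rec (Bool.rec (ih q') true e) (Bool.rec true (ih q') e) (tb M q')) l

private noncomputable def walkP (f : List ℕ → ℕ → ℕ) (pl : List ℕ) (l : List Bool) (t : Tr) : ℕ → ℕ → ℕ :=
  Tr.rec (motive := fun _ => ℕ → ℕ → ℕ) (fun _ _ => 0)
    (fun x _ _ ihc ihs p M =>
      Nat.lor (Lib.PermNetPt.force (f (pls [nt x]) p) fun p' => seq ((nt x).app M) fun M' =>
        Nat.lor (Bool.rec 0 (Nat.pow 2 p') (failsP f pl M' l p')) (ihc p' M')) (ihs p M)) t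

private noncomputable def coverP (f : List ℕ → ℕ → ℕ) (S : ℕ) (y v : List Lt) (l : List Bool) (t : Tr) (pl : List Lt)
    (b r : ℕ) : Bool :=
  seqB S fun S => Nat.beq (Nat.land S (sat [ntw y] r (Nat.lor (Nat.pow 2 b) (walkP f (pls (ntw v)) l t b (Mw pl))))) S

private theorem cover_fastP : cover = coverP pimgP := by
  rw [← pimg_fastP]
  rfl

/-! ### 11 -/

/-- an element of order 11 -/
def y11 : List Lt := [.e, .f, .i, .d, .h, .a, .e, .d, .c, .g, .b, .e, .f, .i, .d, .h, .a, .e, .d, .c, .g, .b]
/-- the element of order 22 `y11 z0` -/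
def v11 : List Lt := [.e, .f, .i, .d, .h, .a, .e, .d, .c, .g, .b, .e, .f, .i, .d, .h, .a, .e, .d, .c, .g, .b, .z]
def l11 : List Bool := [true, false, false, true, true, false, false, false, true, false, false]
def p11 : List Lt := [.h, .i, .d, .e, .c, .d, .h, .a, .b, .c, .d, .e, .f, .g, .j]
/-- a word taking `0` to the second fixed point of `y11` -/
def q11 : List Lt := [.j, .h, .i, .d, .h, .e, .f, .c, .d, .e, .a, .b, .c, .d, .h, .i, .g, .e, .f, .c, .d, .e, .b, .c, .d, .h, .a, .b, .c, .d, .e, .f, .g, .j]

theorem cover11 : cover (pattern [([.z], true)]) v11 v11 l11 Data.t11 p11 128 22 = true := by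
  rewrite [cover_fastP]
  decide +kernel
theorem good11 : good v11 l11 p11 128 = true := by decide +kernel

/-- the orbit of `128` under `y11 z0` and its transposition -/
noncomputable def O11 : ℕ := orbM [p11 ++ .z :: p11.reverse, v11] 128 21

/-- all points of the list are in the mask -/
noncomputable def allTb (M : ℕ) (l : List ℕ) : Bool :=
  seqB M fun M => List.rec (motive := fun _ => Bool) true (fun p _ ih => and (tb M p) ih) l

theorem allTb_spec (M : ℕ) (l : List ℕ) (h : allTb M l = true) : ∀ p ∈ l, M.testBit p = true := by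
  unfold allTb at h
  rw [seqB_eq] at h
  induction l with
  | nil => intro p hp; exact absurd hp (by simp)
  | cons q l ih =>
    intro p hp
    have hl' : and (tb M q) (List.rec (motive := fun _ => Bool) true (fun p _ ih => and (tb M p) ih) l) = true := h
    rw [Bool.and_eq_true, tb_eq] at hl'
    rcases List.mem_cons.1 hp with rfl | hp
    · exact hl'.1
    · exact ih hl'.2 p hp

/-- the points `q11 x` of the letters `x ≠ j, z` -/
noncomputable def L11 : List ℕ := [ptw q11 11589, ptw q11 8004, ptw q11 8003, ptw q11 8000, ptw q11 8001,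
  ptw q11 8002, ptw q11 8005, ptw q11 7999, ptw q11 8007]

theorem orb11 : allTb O11 L11 = true := by decide +kernel

theorem in11 : inM (pattern [([.z], true)]) 128 = true := by decide +kernel

/-- the mask of a list of points -/
noncomputable def mor (l : List ℕ) : ℕ :=
  List.rec (motive := fun _ => ℕ) 0 (fun p _ ih => Nat.lor (Nat.pow 2 p) ih) l

/-- the points of the list are the points of the pattern -/
noncomputable def pchk (cs : List (List Lt × Bool)) (l : List ℕ) : Bool := Nat.beq (pattern cs) (mor l)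

theorem fix11 : pchk [(y11, false)] [0, 18119] = true := by decide +kernel

theorem q11_pt : Nat.beq (ptw q11 0) 18119 = true := by decide +kernel

end Cfsg.Agent.LThreeFi23
end

-- part: LThreeFi23/ChkD
section
/-! Kernel checks: orders of the elements of `Fi23` (helper48) -/

set_option autoImplicit false
set_option Elab.async false
set_option maxRecDepth 100000

namespace Cfsg.Agent.LThreeFi23

open Cfsg.Agent.Lib.PermNet Cfsg.Agent.Lib.PermNetOrbit

/-- the `m`-th power of a word -/
def wrep (w : List Lt) (m : ℕ) : List Lt := Nat.rec [] (fun _ ih => w ++ ih) m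

theorem elw_wrep (w : List Lt) (m : ℕ) : elw (wrep w m) = elw w ^ m := by
  induction m with
  | zero => rw [pow_zero]; rfl
  | succ m ih =>
    change elw (w ++ wrep w m) = _
    rw [elw_append, ih, pow_succ']

def y5 : List Lt := [.z, .j, .g, .f]
def y7 : List Lt := [.a, .b, .c, .d, .h, .i]

private noncomputable def fixAll (w : List Lt) : Bool :=
  [Lt.a, .b, .c, .d, .e, .f, .g, .h, .i, .j, .z].all fun x => Nat.beq (ptWord (ntw w) (pt x)) (pt x)

private theorem pow_of_fix {y : List Lt} {m : ℕ} (h : fixAll (wrep y m) = true) : elw y ^ m = 1 := by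
  rw [← elw_wrep]
  refine eq_one_of_comm fun x => (fix_pt_iff _ x).1 ?_
  rw [← ptw_eq]
  exact Nat.eq_of_beq_eq_true (List.all_eq_true.1 h x (by cases x <;> simp))

private theorem o_all : fixAll (wrep y5 5) = true ∧ fixAll (wrep y7 7) = true ∧ fixAll (wrep y11 11) = true ∧ fixAll (wrep y13 13) = true ∧ fixAll (wrep y17 17) = true ∧ fixAll (wrep y23 23) = true := by
  delta fixAll
  rewrite [Cfsg.Agent.Lib.PermNetFast.ptWord_fast]
  decide +kernel


theorem pow11 : elw y11 ^ 11 = 1 := pow_of_fix o_all.2.2.1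


theorem pow13 : elw y13 ^ 13 = 1 := pow_of_fix o_all.2.2.2.1


theorem pow17 : elw y17 ^ 17 = 1 := pow_of_fix o_all.2.2.2.2.1


theorem pow23 : elw y23 ^ 23 = 1 := pow_of_fix o_all.2.2.2.2.2

theorem pow5 : elw y5 ^ 5 = 1 := pow_of_fix o_all.1

theorem pow7 : elw y7 ^ 7 = 1 := pow_of_fix o_all.2.1

end Cfsg.Agent.LThreeFi23
end

-- part: LThreeFi23/PrimesC
section
-- merged: Cfsg.Agent.LThreeFi23.ChkE
section

/-! Kernel checks: patterns (helper48) -/

set_option autoImplicit false
set_option Elab.async false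
set_option maxRecDepth 100000

namespace Cfsg.Agent.LThreeFi23

open Cfsg.Agent.Lib.PermNet Cfsg.Agent.Lib.PermNetOrbit

theorem testBit_mor (l : List ℕ) (q : ℕ) : (mor l).testBit q = true ↔ q ∈ l := by
  induction l with
  | nil => simp [mor]
  | cons p l ih =>
    have h : mor (p :: l) = 2 ^ p ||| mor l := rfl
    rw [h, Nat.testBit_or, Bool.or_eq_true, ih, Nat.testBit_two_pow, List.mem_cons, decide_eq_true_iff]
    constructor
    · rintro (h | h)
      · exact Or.inl h.symm
      · exact Or.inr h
    · rintro (h | h)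
      · exact Or.inl h.symm
      · exact Or.inr h

theorem pchk_mem {cs : List (List Lt × Bool)} {l : List ℕ} (h : pchk cs l = true) (q : ℕ) :
    (q < 31671 ∧ Pat cs q) ↔ q ∈ l := by
  have h1 : pattern cs = mor l := Nat.eq_of_beq_eq_true h
  rw [← testBit_pattern, h1, testBit_mor]

theorem pchk_act {cs : List (List Lt × Bool)} {l : List ℕ} (h : pchk cs l = true) {w : Spor.Fi23}
    (hw : ∀ c ∈ cs, w * elw c.1 = elw c.1 * w) {p : ℕ} (hp : p ∈ l) : Fischer.Fi23Hom.rho w p ∈ l := by
  have h1 := (pchk_mem h p).2 hp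
  exact (pchk_mem h _).1 ⟨act_lt w h1.1, h1.2.act hw⟩

theorem e_P1 : pchk [([.a], false), ([.b], false), ([.c], false), ([.d], false), ([.e], false), ([.f], false),
    ([.h], false), ([.i], false)] [0, 1, 8006] = true := by decide +kernel
theorem e_y13 : pchk [(y13, false)] [0, 1, 8006] = true := by decide +kernel
theorem e_n5a : pchk [(y5, false), ([.a, .b, .h, .i], false)] [] = true := by decide +kernel
theorem e_n5b : pchk [(y5, false), ([.a, .b, .i, .h], false)] [] = true := by decide +kernel
theorem e_c5 : pchk [(y5, false), ([.a], false), ([.h], false), ([.i], false), ([.b], true)] [8003, 11589] = true := by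
  decide +kernel
theorem e_d5 : pchk [(y5, false), ([.a], false), ([.b], false), ([.i], false), ([.h], true)] [8000, 8007] = true := by
  decide +kernel
theorem e_S5 : pchk [([.a], false), ([.b], false), ([.c], false), ([.d], false), ([.h], false), ([.i], false)]
    [0, 8006, 8005, 8002, 3, 1, 6531, 6529, 2, 5268] = true := by decide +kernel
theorem e_e : pchk [([.z], false), ([.j], false), ([.g], false), ([.a], false), ([.b], false), ([.c], false),
    ([.h], false), ([.i], false), ([.f], true), ([.d], true)] [8001] = true := by decide +kernel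
theorem e_g7 : pchk [(y7, false), ([.z], false), ([.j], true)] [0, 6529, 8005] = true := by decide +kernel
theorem e_f7 : pchk [(y7, false), ([.z], false), ([.j], false), ([.g], true)] [8002] = true := by decide +kernel
theorem e_S7 : pchk [([.z], false), ([.j], false), ([.g], false), ([.f], false)]
    [11589, 8004, 8003, 8000, 7999, 8007, 6291, 4134, 4234, 7834, 5260, 5258, 5286, 6290,
      4964, 5261, 9592, 6526, 6525, 6522, 6537] = true := by decide +kernel
theorem e_zj : pchk [([.z, .j], false), ([.z], true)] [] = true := by decide +kernel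
theorem e_y5 : pchk [(y5, false)] [4134, 4234, 4964, 5258, 5260, 5261, 5286, 6290, 6291, 6522, 6525, 6526, 6537,
    7834, 7999, 8000, 8003, 8004, 8007, 9592, 11589] = true := by decide +kernel
theorem e_y7 : pchk [(y7, false)] [0, 1, 2, 3, 5268, 6529, 6531, 8002, 8005, 8006] = true := by decide +kernel

/-- the points of the list follow each other under the word, from `p` -/
noncomputable def chain (y : List Lt) (p : ℕ) (l : List ℕ) : Bool :=
  List.rec (motive := fun _ => ℕ → Bool) (fun _ => true)
    (fun q _ ih p => and (Nat.beq (ptw y p) q) (ih q)) l p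

theorem chain_cons (y : List Lt) (p q : ℕ) (l : List ℕ) :
    chain y p (q :: l) = true ↔ Fischer.Fi23Hom.rho (elw y) p = q ∧ chain y q l = true := by
  have h : chain y p (q :: l) = and (Nat.beq (ptw y p) q) (chain y q l) := rfl
  rw [h, Bool.and_eq_true, ptw_eq]
  constructor
  · rintro ⟨h1, h2⟩
    exact ⟨Nat.eq_of_beq_eq_true h1, h2⟩
  · rintro ⟨h1, h2⟩
    exact ⟨by rw [h1, Nat.beq_refl], h2⟩

theorem chain_mem {y : List Lt} {p : ℕ} {l : List ℕ} (h : chain y p l = true) {q : ℕ} (hq : q ∈ l) :
    ∃ i : ℕ, q = Fischer.Fi23Hom.rho (elw y ^ i) p := by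
  induction l generalizing p with
  | nil => exact absurd hq (by simp)
  | cons r l ih =>
    rw [chain_cons] at h
    rcases List.mem_cons.1 hq with rfl | hq
    · exact ⟨1, by rw [pow_one, h.1]⟩
    · obtain ⟨i, hi⟩ := ih h.2 hq
      refine ⟨i + 1, ?_⟩
      rw [hi, ← h.1, pow_succ, map_mul, Equiv.Perm.mul_apply]

theorem k_y5a : chain y5 0 [8006, 8005, 8002, 3, 0] = true := by decide +kernel
theorem k_y5b : chain y5 1 [6531, 6529, 2, 5268, 1] = true := by decide +kernel
theorem k_y7a : chain y7 11589 [8004, 8003, 8000, 7999, 8007, 6291, 11589] = true := by decide +kernel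
theorem k_y7b : chain y7 4134 [4234, 7834, 5260, 5258, 5286, 6290, 4134] = true := by decide +kernel
theorem k_y7c : chain y7 4964 [5261, 9592, 6526, 6525, 6522, 6537, 4964] = true := by decide +kernel
theorem k_u : chain [.z, .j] 0 [8006, 1, 0] = true := by decide +kernel

/-- words for the points `4134` and `4964` -/
def q4134 : List Lt := [.e, .f, .g, .j, .d, .e, .c, .d, .h, .f, .g, .e, .f, .d, .e, .c, .d, .h, .b, .c, .d, .e, .f, .g, .j]
def q4964 : List Lt := [.e, .f, .g, .j, .d, .e, .c, .d, .h, .f, .g, .e, .f, .d, .e, .c, .d, .h, .a, .b, .c, .d, .e, .f, .g, .j]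

/-- the point `q` commutes with the point `elw l 0 = p` -/
noncomputable def comB (l : List Lt) (p q : ℕ) : Bool :=
  and (Nat.beq (ptw l 0) p) (Nat.beq (ptw (l ++ .z :: l.reverse) q) q)

theorem comB_spec {l : List Lt} {p q : ℕ} (h : comB l p q = true) : Com p q := by
  unfold comB at h
  rw [Bool.and_eq_true] at h
  have h1 := Nat.eq_of_beq_eq_true h.1
  have h2 := Nat.eq_of_beq_eq_true h.2
  rw [ptw_eq] at h1 h2
  unfold Com
  rw [T_eq h1, show elw l * Fischer.Fi23Z.z0 * (elw l)⁻¹ = elw (l ++ .z :: l.reverse) from ?_]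
  · exact h2
  · rw [elw_append, elw_cons, elw_reverse, mul_assoc]
    rfl

theorem m_1 : comB [.j] 1 6531 = true := by decide +kernel
theorem m_4134 : comB q4134 4134 4234 = true := by decide +kernel
theorem m_4964 : comB q4964 4964 5261 = true := by decide +kernel
theorem m_0 : Nat.beq (ptw [.z] 8006) 8006 = false := by decide +kernel
theorem m_a : Nat.beq (ptw [.a] 8004) 8004 = false := by decide +kernel
theorem m_h : Nat.beq (ptw [.h] 8007) 8007 = false := by decide +kernel

end Cfsg.Agent.LThreeFi23

end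

-- merged: Cfsg.Agent.LThreeFi23.Primes
section

/-!
# 3-elements of `Fi23` commuting with elements of order 5, 7, 11, 13, 17, 23 (helper48)
-/

set_option autoImplicit false
set_option linter.constructorNameAsVariable false

namespace Cfsg.Agent.LThreeFi23

open Subgroup Cfsg Cfsg.Agent.Lib.PermNet Cfsg.Agent.Fischer.Fi23Hom
open Cfsg.Agent.Lib.PermNetOrbit (sat sat_spec)
open Cfsg.Spor (Fi23)

/-! ### Commuting letters -/

theorem comm_of_chk {l l' : List Lt} (h : checkEq 15 (ntw (l ++ l')) (ntw (l' ++ l)) = true) :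
    elw l * elw l' = elw l' * elw l := by
  rw [← elw_append, ← elw_append]
  exact elw_eq_of_checkEq h

open Cfsg.Agent.Fischer.Fi23Class in
/-- `z0` commutes with the letters other than `j` -/
theorem z_comm_el (x : Lt) (hx : x ≠ .j) : el .z * el x = el x * el .z := by
  have key : ∀ y : Spor.Fi23.Gen, y ≠ .j → Fischer.Fi23Z.z0 * gen y = gen y * Fischer.Fi23Z.z0 := by
    intro y hy
    apply rho_inj
    rw [map_mul, map_mul]
    exact Fischer.Fi23Z.z_comm y hy
  cases x
  case j => exact absurd rfl hx
  case z => rfl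
  all_goals exact key _ (by decide)

theorem j_comm_el (x : Lt) (hx : x ≠ .z) (hx' : x ≠ .g) : el .j * el x = el x * el .j := by
  cases x
  case z => exact absurd rfl hx
  case g => exact absurd rfl hx'
  case j => rfl
  all_goals exact Fischer.Fi23Class.gen_comm _ _ (by decide)

theorem comm_elw {g : Fi23} {l : List Lt} (h : ∀ x ∈ l, g * el x = el x * g) : g * elw l = elw l * g := by
  induction l with
  | nil => rw [elw_nil, mul_one, one_mul]
  | cons x l ih =>
    rw [elw_cons]
    have h1 : Commute g (el x) := h x List.mem_cons_self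
    have h2 : Commute g (elw l) := ih (fun y hy => h y (List.mem_cons_of_mem _ hy))
    exact (h1.mul_right h2).eq

theorem elw_one (x : Lt) : elw [x] = el x := by rw [elw_cons, elw_nil, mul_one]

/-! ### The walks -/

theorem msk_zero : Msk 0 (pattern [([.z], false)]) := by
  intro q hq
  rw [testBit_pattern, pat_cons, elw_one]
  have h1 := com_pt_iff .z q
  change Com 0 q ↔ _ at h1
  rw [h1]
  simp [Pat, hq]

theorem Mw_cons (x : Lt) (l : List Lt) : Mw (x :: l) = (nt x).app (Mw l) := by
  show seq (Mw l) (fun m => (nt x).app m) = _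
  rw [seq_eq]

theorem Mw_msk (l : List Lt) : Msk (rho (elw l) 0) (Mw l) := by
  induction l with
  | nil =>
    rw [elw_nil, map_one]
    exact msk_zero
  | cons x l ih =>
    rw [elw_cons, map_mul, Equiv.Perm.mul_apply, Mw_cons]
    exact ih.step (act_lt _ (by norm_num)) x

theorem walk_fix {S b r o : ℕ} {y v : List Lt} {l : List Bool} {t : Tr} {pl : List Lt} {w : Fi23} (hw : Tel w)
    (hv : w * elw v = elw v * w) (hy : w * elw y = elw y * w) (hvy : elw v * elw y = elw y * elw v)
    (ho : elw y ^ o = 1) (ho3 : o.Coprime 3) (hpl : Nat.beq (ptw pl 0) b = true) (hb : b < 31671)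
    (hcov : cover S y v l t pl b r = true) (hgood : good v l pl b = true)
    (hS : S.testBit (rho w b) = true) : rho w b = b := by
  have hpl' : rho (elw pl) 0 = b := by rw [← ptw_eq]; exact Nat.eq_of_beq_eq_true hpl
  have hM : Msk b (Mw pl) := by rw [← hpl']; exact Mw_msk pl
  have hvq : ∀ q < 31671, pimg (pls (ntw v)) q = rho (elw v) q := by
    intro q hq
    rw [pimg_pls _ (ntw_ok v) (by omega), rho_elw]
  have hg : ¬ Bad (elw v) l b := by
    intro h
    have h1 := (fails_spec hvq hM l hb).2 h
    unfold good at hgood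
    rw [h1] at hgood
    exact Bool.noConfusion hgood
  refine fix_of_walk hw hv hy hvy ho ho3 hb hg ?_
  unfold cover at hcov
  rw [seqB_eq] at hcov
  have h1 : S &&& sat [ntw y] r (2 ^ b ||| walk (pls (ntw v)) l t b (Mw pl)) = S :=
    Nat.eq_of_beq_eq_true hcov
  rw [← h1, Nat.testBit_and, Bool.and_eq_true] at hS
  obtain ⟨k', ⟨k, hk, rfl⟩, hk'⟩ := sat_spec (K := (zpowers (elw y)).map rho) (N := 2 ^ 15)
    (by
      intro u hu
      rw [List.mem_singleton] at hu
      rw [hu]
      exact ntw_ok y)
    (by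
      intro u hu
      rw [List.mem_singleton] at hu
      rw [hu]
      exact ⟨elw y, mem_zpowers _, rho_elw y⟩) r hS.2
  refine ⟨k, hk, ?_⟩
  rw [Nat.testBit_or, Bool.or_eq_true, Nat.testBit_two_pow, decide_eq_true_iff] at hk'
  rcases hk' with h | h
  · exact Or.inl h.symm
  · exact Or.inr (walk_spec hvq l t hb hM h).2

/-! ### 17 and 23 -/

/-- a 3-element commuting with `y23` is trivial -/
theorem r23 {w : Fi23} (hw : Tel w) (h : w * elw y23 = elw y23 * w) : w = 1 := by
  have hb : rho w 3 = 3 := walk_fix hw h h rfl pow23 (by norm_num) (by decide +kernel) (by norm_num) cover23 good23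
    ((testBit_full _).2 (act_lt w (by norm_num)))
  refine eq_one_of_orbit ?_ hb sat23
  intro u hu
  simp only [List.mem_cons, List.not_mem_nil, or_false] at hu
  rcases hu with rfl | rfl
  · exact comm_T_word p23 (b := 3) (by decide +kernel) (by norm_num) hb
  · exact h

/-- a 3-element commuting with `y17` is trivial -/
theorem r17 {w : Fi23} (hw : Tel w) (h : w * elw y17 = elw y17 * w) : w = 1 := by
  have hb : rho w 459 = 459 := walk_fix hw h h rfl pow17 (by norm_num) (by decide +kernel) (by norm_num) cover17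
    good17 ((testBit_full _).2 (act_lt w (by norm_num)))
  refine eq_one_of_orbit ?_ hb sat17
  intro u hu
  simp only [List.mem_cons, List.not_mem_nil, or_false] at hu
  rcases hu with rfl | rfl
  · exact comm_T_word p17 (b := 459) (by decide +kernel) (by norm_num) hb
  · exact h

/-! ### 13 -/

theorem comm_el_of_fix {w : Fi23} {x : Lt} {p : ℕ} (hp : pt x = p) (h : rho w p = p) : w * el x = el x * w := by
  subst hp
  exact (fix_pt_iff w x).1 h

theorem v13_eq : elw v13 = el .z * elw y13 := elw_cons _ _

theorem z_y13 : el .z * elw y13 = elw y13 * el .z := by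
  apply comm_elw
  intro x hx
  apply z_comm_el
  rintro rfl
  exact absurd hx (by decide)

/-- a 3-element commuting with `y13`, `z0` and `j` is trivial -/
theorem r13core {w : Fi23} (hw : Tel w) (h : w * elw y13 = elw y13 * w) (hz : w * el .z = el .z * w)
    (hj : w * el .j = el .j * w) : w = 1 := by
  have hv : w * elw v13 = elw v13 * w := by
    rw [v13_eq]
    exact ((show Commute w (el .z) from hz).mul_right (show Commute w (elw y13) from h)).eq
  have hvy : elw v13 * elw y13 = elw y13 * elw v13 := by
    rw [v13_eq]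
    exact ((show Commute (el .z) (elw y13) from z_y13).mul_left (Commute.refl _)).eq
  have h8 : rho w 8006 = 8006 := (fix_pt_iff w .j).2 hj
  have hb : rho w 2 = 2 := by
    refine walk_fix hw hv h hvy pow13 (by norm_num) (by decide +kernel) (by norm_num) cover13 good13 ?_
    have h2 := inM_spec in13
    unfold S13
    rw [testBit_delPt]
    · rw [testBit_pattern] at h2 ⊢
      refine ⟨act_lt w h2.1, h2.2.act ?_⟩
      intro c hc
      simp only [List.mem_cons, List.not_mem_nil, or_false] at hc
      rcases hc with rfl | rfl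
      · rw [elw_one]; exact hj
      · rw [elw_one]; exact hz
    · intro h3
      have h4 : (2 : ℕ) = 8006 := (rho w).injective (h3.trans h8.symm)
      norm_num at h4
  refine eq_one_of_orbit ?_ hb sat13
  intro u hu
  simp only [List.mem_cons, List.not_mem_nil, or_false] at hu
  rcases hu with rfl | rfl | rfl | rfl
  · exact comm_T_word [.g, .j] (b := 2) (by decide +kernel) (by norm_num) hb
  · exact hv
  · rw [elw_one]; exact hj
  · rw [elw_one]; exact hz

/-! ### 11 -/

/-- a 3-element fixing the points of all the letters but `j` is trivial -/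
theorem eq_one_of_nine {w : Fi23} (hw : Tel w) (h : ∀ x : Lt, x ≠ .j → rho w (pt x) = pt x) : w = 1 := by
  apply comm_of_fix_pt
  intro x
  by_cases hx : x = .j
  · subst hx
    change rho w 8006 = 8006
    have h0 : rho w 0 = 0 := h .z (by decide)
    have key : ∀ p ∈ [0, 1, 8006], rho w p ∈ [0, 1, 8006] := by
      intro p hp
      refine pchk_act e_P1 ?_ hp
      intro c hc
      simp only [List.mem_cons, List.not_mem_nil, or_false] at hc
      rcases hc with rfl | rfl | rfl | rfl | rfl | rfl | rfl | rfl <;>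
        (rw [elw_one]; exact (fix_pt_iff w _).1 (h _ (by decide)))
    have hne : ∀ p, p ≠ 0 → rho w p ≠ 0 := fun p hp h1 => hp ((rho w).injective (h1.trans h0.symm))
    have h1 := key 8006 (by simp)
    have h2 := key 1 (by simp)
    simp only [List.mem_cons, List.not_mem_nil, or_false] at h1 h2
    refine fix_of_pair hw (q := 1) ?_ ?_
    · rcases h1 with h1 | h1 | h1
      · exact absurd h1 (hne _ (by norm_num))
      · exact Or.inr h1
      · exact Or.inl h1
    · rcases h2 with h2 | h2 | h2
      · exact absurd h2 (hne _ (by norm_num))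
      · exact Or.inr h2
      · exact Or.inl h2
  · exact h x hx

theorem fix11' {w : Fi23} (h : w * elw y11 = elw y11 * w) {p : ℕ} (hp : p = 0 ∨ p = 18119) :
    rho w p = 0 ∨ rho w p = 18119 := by
  have h1 := pchk_act fix11 (w := w) (p := p) (by
    intro c hc
    simp only [List.mem_cons, List.not_mem_nil, or_false] at hc
    rw [hc]
    exact h) (by simpa using hp)
  simpa using h1

theorem v11_eq : elw v11 = elw y11 * el .z := by
  have h : v11 = y11 ++ [.z] := rfl
  rw [h, elw_append, elw_one]

theorem z_y11 : el .z * elw y11 = elw y11 * el .z := by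
  apply comm_elw
  intro x hx
  apply z_comm_el
  rintro rfl
  exact absurd hx (by decide)

theorem pow22 : elw v11 ^ 22 = 1 := by
  rw [v11_eq, (show Commute (elw y11) (el .z) from z_y11.symm).mul_pow, show 22 = 11 * 2 from rfl, pow_mul, pow11,
    one_pow, one_mul, mul_comm, pow_mul, pow_two, el_sq, one_pow]

/-- a 3-element commuting with `y11` is trivial -/
theorem r11 {w : Fi23} (hw : Tel w) (h : w * elw y11 = elw y11 * w) : w = 1 := by
  have h0 : rho w 0 = 0 := fix_of_pair hw (fix11' h (Or.inl rfl)) (fix11' h (Or.inr rfl))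
  have h1 : rho w 18119 = 18119 :=
    fix_of_pair hw (fix11' h (Or.inr rfl)).symm (fix11' h (Or.inl rfl)).symm
  have hz : w * el .z = el .z * w := comm_el_of_fix (x := .z) rfl h0
  have hv : w * elw v11 = elw v11 * w := by
    rw [v11_eq]
    exact ((show Commute w (elw y11) from h).mul_right (show Commute w (el .z) from hz)).eq
  have hb : rho w 128 = 128 := by
    refine walk_fix hw hv hv rfl pow22 (by norm_num) (by decide +kernel) (by norm_num) cover11 good11 ?_
    have h2 := inM_spec in11
    rw [testBit_pattern] at h2 ⊢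
    refine ⟨act_lt w h2.1, h2.2.act ?_⟩
    intro c hc
    simp only [List.mem_cons, List.not_mem_nil, or_false] at hc
    rw [hc, elw_one]
    exact hz
  have hO : ∀ p, O11.testBit p = true → rho w p = p := by
    intro p hp
    refine fix_orbit (ws := [p11 ++ .z :: p11.reverse, v11]) ?_ hb hp
    intro u hu
    simp only [List.mem_cons, List.not_mem_nil, or_false] at hu
    rcases hu with rfl | rfl
    · exact comm_T_word p11 (b := 128) (by decide +kernel) (by norm_num) hb
    · exact hv
  have hall := allTb_spec O11 L11 orb11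
  -- conjugate
  obtain ⟨g, hgq⟩ : ∃ g, g = elw q11 := ⟨_, rfl⟩
  have hg : rho g 0 = 18119 := by rw [hgq, ← ptw_eq]; exact Nat.eq_of_beq_eq_true q11_pt
  have hc : g⁻¹ * w * g = 1 := by
    have hw' : Tel (g⁻¹ * w * g) := by
      have := hw.conj g⁻¹
      rwa [inv_inv] at this
    apply eq_one_of_nine hw'
    have tr : ∀ p, rho w (rho g p) = rho g p → rho (g⁻¹ * w * g) p = p := by
      intro p hp
      rw [map_mul, map_mul, map_inv, Equiv.Perm.mul_apply, Equiv.Perm.mul_apply, hp, Equiv.Perm.inv_eq_iff_eq]
    intro x hx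
    apply tr
    have hm : ∀ p, ptw q11 p ∈ L11 → rho w (rho g p) = rho g p := by
      intro p hp
      apply hO
      have := hall _ hp
      rwa [ptw_eq, ← hgq] at this
    cases x
    case j => exact absurd rfl hx
    case z =>
      have h5 : rho w (rho g 0) = rho g 0 := by rw [hg]; exact h1
      exact h5
    all_goals exact hm _ (by simp [pt, L11])
  calc w = g * (g⁻¹ * w * g) * g⁻¹ := by group
    _ = 1 := by rw [hc]; group

end Cfsg.Agent.LThreeFi23

end

-- merged: Cfsg.Agent.LThreeFi23.PrimesB
section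

/-!
# 3-elements of `Fi23` commuting with elements of order 5, 7, 13 (helper48)
-/

set_option autoImplicit false
set_option linter.constructorNameAsVariable false

namespace Cfsg.Agent.LThreeFi23

open Subgroup Cfsg Cfsg.Agent.Lib.PermNet Cfsg.Agent.Fischer.Fi23Hom
open Cfsg.Spor (Fi23)

/-! ### General lemmas -/

theorem comm_of_conj_inv {G : Type*} [Group G] {w u : G} (hw : Tel w)
    (h : w * u * w⁻¹ = u ∨ w * u * w⁻¹ = u⁻¹) : w * u = u * w := by
  rcases h with h | h
  · calc w * u = w * u * w⁻¹ * w := by group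
      _ = u * w := by rw [h]
  · have h2 : (w ^ 2) * u = u * w ^ 2 := by
      have h3 : w * u⁻¹ * w⁻¹ = u := by
        calc w * u⁻¹ * w⁻¹ = (w * u * w⁻¹)⁻¹ := by group
          _ = u := by rw [h, inv_inv]
      calc w ^ 2 * u = w * (w * u * w⁻¹) * w⁻¹ * w ^ 2 := by simp [pow_two, mul_assoc]
        _ = u * w ^ 2 := by rw [h, h3]
    obtain ⟨m, hm⟩ := hw.exists_pow (k := 2) (by norm_num)
    have h3 : Commute ((w ^ 2) ^ m) u := (show Commute (w ^ 2) u from h2).pow_left m
    rw [hm] at h3
    exact h3

/-- if the 3-elements of `C` normalizing `Q0` are in `Q0`, then `Q0` is a Sylow 3-subgroup of `C` -/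
theorem conj_of_normalizer {G : Type*} [Group G] [Finite G] (C Q0 : Subgroup G) (hle : Q0 ≤ C)
    (hQ : IsPGroup 3 ↥Q0) (h : ∀ w ∈ C, Tel w → (∀ q ∈ Q0, w * q * w⁻¹ ∈ Q0) → w ∈ Q0) {x : G} (hx : x ∈ C)
    (hx3 : Tel x) : ∃ g ∈ C, g * x * g⁻¹ ∈ Q0 := by
  have : Fact (Nat.Prime 3) := ⟨Nat.prime_three⟩
  have hQC : IsPGroup 3 ↥(Q0.subgroupOf C) := hQ.comap_subtype
  obtain ⟨P, hP⟩ := hQC.exists_le_sylow
  have hPn : Group.IsNilpotent ↥(P : Subgroup ↥C) := P.isPGroup'.isNilpotent
  have hK := (normalizerCondition_iff_only_full_group_self_normalizing.1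
    (Group.normalizerCondition_of_isNilpotent (G := ↥(P : Subgroup ↥C)))) ((Q0.subgroupOf C).subgroupOf (P : Subgroup ↥C))
    (by
      apply le_antisymm _ le_normalizer
      intro w hw
      rw [mem_normalizer_iff] at hw
      rw [mem_subgroupOf, mem_subgroupOf]
      apply h _ (w : ↥C).2
      · obtain ⟨n, hn⟩ := P.isPGroup' w
        refine ⟨n, ?_⟩
        have h1 := congrArg (fun y : ↥(P : Subgroup ↥C) => ((y : ↥C) : G)) hn
        simpa using h1
      · intro q hq
        have h2 := (hw ⟨⟨q, hle hq⟩, hP (mem_subgroupOf.2 hq)⟩).1 (mem_subgroupOf.2 (mem_subgroupOf.2 hq))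
        rw [mem_subgroupOf, mem_subgroupOf] at h2
        exact h2)
  have hPQ : (P : Subgroup ↥C) ≤ Q0.subgroupOf C := by
    intro y hy
    have h1 : (⟨y, hy⟩ : ↥(P : Subgroup ↥C)) ∈ (Q0.subgroupOf C).subgroupOf (P : Subgroup ↥C) := by
      rw [hK]; exact mem_top _
    exact mem_subgroupOf.1 h1
  have hxp : IsPGroup 3 ↥(zpowers (⟨x, hx⟩ : ↥C)) := by
    obtain ⟨n, hn⟩ := hx3
    have h1 : (⟨x, hx⟩ : ↥C) ^ 3 ^ n = 1 := Subtype.ext hn
    obtain ⟨m, -, hm⟩ := (Nat.dvd_prime_pow Nat.prime_three).1 (orderOf_dvd_of_pow_eq_one h1)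
    exact IsPGroup.of_card (n := m) (by rw [Nat.card_zpowers, hm])
  obtain ⟨P2, hP2⟩ := hxp.exists_le_sylow
  obtain ⟨g, hg⟩ := MulAction.exists_smul_eq (↥C) P2 P
  refine ⟨g, g.2, ?_⟩
  have h1 : (g * ⟨x, hx⟩ * g⁻¹ : ↥C) ∈ (P : Subgroup ↥C) := by
    rw [← hg, Sylow.coe_subgroup_smul]
    have h2 := Subgroup.smul_mem_pointwise_smul (⟨x, hx⟩ : ↥C) (MulAut.conj g) (P2 : Subgroup ↥C) (hP2 (mem_zpowers _))
    rwa [MulAut.smul_def, MulAut.conj_apply] at h2
  exact mem_subgroupOf.1 (hPQ h1)

/-- an orbit on which the test fails -/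
theorem orbit_contra {w y : Fi23} (hc : w * y = y * w) {p r : ℕ} (hp : p < 31671) (hr : r < 31671) {i : ℕ}
    (h : rho w p = rho (y ^ i) r) (h1 : ¬ Com p (rho y p)) (h2 : Com r (rho y r)) : False := by
  apply h1
  rw [← com_act w hp, ← Equiv.Perm.mul_apply, ← map_mul, hc, map_mul, Equiv.Perm.mul_apply, h,
    ← Equiv.Perm.mul_apply (rho y), ← map_mul, ← pow_succ', pow_succ, map_mul, Equiv.Perm.mul_apply, com_act _ hr]
  exact h2

theorem fix_of_comm_fix {w y : Fi23} (hc : w * y = y * w) {p : ℕ} (h : rho w p = p) : rho w (rho y p) = rho y p := by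
  rw [← Equiv.Perm.mul_apply, ← map_mul, hc, map_mul, Equiv.Perm.mul_apply, h]

theorem ncom_pt {x : Lt} {p q : ℕ} (hp : pt x = p) (h : Nat.beq (ptw [x] q) q = false) : ¬ Com p q := by
  subst hp
  rw [com_pt_iff]
  intro h1
  rw [← elw_one, ← ptw_eq] at h1
  rw [h1, Nat.beq_refl] at h
  exact Bool.noConfusion h

theorem fix_chain {y : List Lt} {w : Fi23} (hc : w * elw y = elw y * w) {p : ℕ} {l : List ℕ}
    (h : chain y p l = true) (hp : rho w p = p) : ∀ q ∈ l, rho w q = q := by
  intro q hq
  obtain ⟨i, hi⟩ := chain_mem h hq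
  rw [hi]
  exact fix_of_comm_fix ((show Commute w (elw y) from hc).pow_right i).eq hp

/-- all the letters but `e` -/
theorem eq_one_of_ten {w : Fi23} (h : ∀ x : Lt, x ≠ .e → rho w (pt x) = pt x) : w = 1 := by
  apply comm_of_fix_pt
  intro x
  by_cases hx : x = .e
  · subst hx
    have h1 := pchk_act e_e (w := w) (p := 8001) (by
      intro c hc
      simp only [List.mem_cons, List.not_mem_nil, or_false] at hc
      rcases hc with rfl | rfl | rfl | rfl | rfl | rfl | rfl | rfl | rfl | rfl <;>
        (rw [elw_one]; exact (fix_pt_iff w _).1 (h _ (by decide)))) (by simp)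
    exact List.mem_singleton.1 h1
  · exact h x hx

theorem split21 : ∀ q ∈ [11589, 8004, 8003, 8000, 7999, 8007, 6291, 4134, 4234, 7834, 5260, 5258, 5286, 6290,
    4964, 5261, 9592, 6526, 6525, 6522, 6537], q ∈ [8004, 8003, 8000, 7999, 8007, 6291, 11589] ∨
    q ∈ [4234, 7834, 5260, 5258, 5286, 6290, 4134] ∨ q ∈ [5261, 9592, 6526, 6525, 6522, 6537, 4964] := by
  decide +kernel

theorem split10 : ∀ q ∈ [0, 8006, 8005, 8002, 3, 1, 6531, 6529, 2, 5268], q ∈ [8006, 8005, 8002, 3, 0] ∨
    q ∈ [6531, 6529, 2, 5268, 1] := by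
  decide +kernel

/-- a 3-element commuting with `y7`, `z0`, `j` is trivial -/
theorem r7core {w : Fi23} (hw : Tel w) (h : w * elw y7 = elw y7 * w) (hz : w * el .z = el .z * w)
    (hj : w * el .j = el .j * w) : w = 1 := by
  have h0 : rho w 0 = 0 := (fix_pt_iff w .z).2 hz
  have h8 : rho w 8006 = 8006 := (fix_pt_iff w .j).2 hj
  -- `g`
  have hg : rho w 8005 = 8005 := by
    have key : ∀ p ∈ [0, 6529, 8005], rho w p ∈ [0, 6529, 8005] := by
      intro p hp
      refine pchk_act e_g7 ?_ hp
      intro c hc
      simp only [List.mem_cons, List.not_mem_nil, or_false] at hc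
      rcases hc with rfl | rfl | rfl
      · exact h
      · rw [elw_one]; exact hz
      · rw [elw_one]; exact hj
    have hne : ∀ p, p ≠ 0 → rho w p ≠ 0 := fun p hp h1 => hp ((rho w).injective (h1.trans h0.symm))
    have h1 := key 8005 (by simp)
    have h2 := key 6529 (by simp)
    simp only [List.mem_cons, List.not_mem_nil, or_false] at h1 h2
    refine fix_of_pair hw (q := 6529) ?_ ?_
    · rcases h1 with h1 | h1 | h1
      · exact absurd h1 (hne _ (by norm_num))
      · exact Or.inr h1
      · exact Or.inl h1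
    · rcases h2 with h2 | h2 | h2
      · exact absurd h2 (hne _ (by norm_num))
      · exact Or.inr h2
      · exact Or.inl h2
  have hg' : w * el .g = el .g * w := (fix_pt_iff w .g).1 hg
  -- `f`
  have hf : rho w 8002 = 8002 := by
    have h1 := pchk_act e_f7 (w := w) (p := 8002) (by
      intro c hc
      simp only [List.mem_cons, List.not_mem_nil, or_false] at hc
      rcases hc with rfl | rfl | rfl | rfl
      · exact h
      · rw [elw_one]; exact hz
      · rw [elw_one]; exact hj
      · rw [elw_one]; exact hg') (by simp)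
    simpa using h1
  have hf' : w * el .f = el .f * w := (fix_pt_iff w .f).1 hf
  -- `a`
  have ha : rho w 11589 = 11589 := by
    have h1 := pchk_act e_S7 (w := w) (p := 11589) (by
      intro c hc
      simp only [List.mem_cons, List.not_mem_nil, or_false] at hc
      rcases hc with rfl | rfl | rfl | rfl
      · rw [elw_one]; exact hz
      · rw [elw_one]; exact hj
      · rw [elw_one]; exact hg'
      · rw [elw_one]; exact hf') (by simp)
    have hya : rho (elw y7) 11589 = 8004 := ((chain_cons _ _ _ _).1 k_y7a).1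
    have hyb : rho (elw y7) 4134 = 4234 := ((chain_cons _ _ _ _).1 k_y7b).1
    have hyc : rho (elw y7) 4964 = 5261 := ((chain_cons _ _ _ _).1 k_y7c).1
    have hn : ¬ Com 11589 (rho (elw y7) 11589) := by rw [hya]; exact ncom_pt (x := .a) rfl m_a
    have hm : rho w 11589 ∈ [8004, 8003, 8000, 7999, 8007, 6291, 11589] ∨
        rho w 11589 ∈ [4234, 7834, 5260, 5258, 5286, 6290, 4134] ∨
        rho w 11589 ∈ [5261, 9592, 6526, 6525, 6522, 6537, 4964] := split21 _ h1
    rcases hm with hm | hm | hm
    · obtain ⟨i, hi⟩ := chain_mem k_y7a hm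
      refine fix_of_comm hw (y := elw y7 ^ i) ((show Commute w (elw y7) from h).pow_right i).eq (o := 7) ?_
        (by norm_num) hi
      rw [← pow_mul, mul_comm, pow_mul, pow7, one_pow]
    · obtain ⟨i, hi⟩ := chain_mem k_y7b hm
      exact (orbit_contra h (by norm_num) (by norm_num) hi hn (by rw [hyb]; exact comB_spec m_4134)).elim
    · obtain ⟨i, hi⟩ := chain_mem k_y7c hm
      exact (orbit_contra h (by norm_num) (by norm_num) hi hn (by rw [hyc]; exact comB_spec m_4964)).elim
  have hall := fix_chain h k_y7a ha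
  apply eq_one_of_ten
  intro x hx
  cases x
  case e => exact absurd rfl hx
  case z => exact h0
  case j => exact h8
  case g => exact hg
  case f => exact hf
  all_goals exact hall _ (by simp [pt])

/-- a 3-element commuting with `y5`, `a`, `b`, `h`, `i` is trivial -/
theorem r5core {w : Fi23} (hw : Tel w) (h : w * elw y5 = elw y5 * w) (ha : w * el .a = el .a * w)
    (hb : w * el .b = el .b * w) (hh : w * el .h = el .h * w) (hi : w * el .i = el .i * w) : w = 1 := by
  have ha' : rho w 11589 = 11589 := (fix_pt_iff w .a).2 ha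
  have hb' : rho w 8004 = 8004 := (fix_pt_iff w .b).2 hb
  have hh' : rho w 7999 = 7999 := (fix_pt_iff w .h).2 hh
  have hi' : rho w 8007 = 8007 := (fix_pt_iff w .i).2 hi
  have hc : rho w 8003 = 8003 := by
    have key : ∀ p ∈ [8003, 11589], rho w p ∈ [8003, 11589] := by
      intro p hp
      refine pchk_act e_c5 ?_ hp
      intro c hc
      simp only [List.mem_cons, List.not_mem_nil, or_false] at hc
      rcases hc with rfl | rfl | rfl | rfl | rfl
      · exact h
      · rw [elw_one]; exact ha
      · rw [elw_one]; exact hh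
      · rw [elw_one]; exact hi
      · rw [elw_one]; exact hb
    have h1 := key 8003 (by simp)
    simp only [List.mem_cons, List.not_mem_nil, or_false] at h1
    exact fix_of_pair hw (q := 11589) h1 (Or.inr ha')
  have hd : rho w 8000 = 8000 := by
    have key : ∀ p ∈ [8000, 8007], rho w p ∈ [8000, 8007] := by
      intro p hp
      refine pchk_act e_d5 ?_ hp
      intro c hc
      simp only [List.mem_cons, List.not_mem_nil, or_false] at hc
      rcases hc with rfl | rfl | rfl | rfl | rfl
      · exact h
      · rw [elw_one]; exact ha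
      · rw [elw_one]; exact hb
      · rw [elw_one]; exact hi
      · rw [elw_one]; exact hh
    have h1 := key 8000 (by simp)
    simp only [List.mem_cons, List.not_mem_nil, or_false] at h1
    exact fix_of_pair hw (q := 8007) h1 (Or.inr hi')
  have hc' : w * el .c = el .c * w := (fix_pt_iff w .c).1 hc
  have hd' : w * el .d = el .d * w := (fix_pt_iff w .d).1 hd
  have h0 : rho w 0 = 0 := by
    have h1 := pchk_act e_S5 (w := w) (p := 0) (by
      intro c hc
      simp only [List.mem_cons, List.not_mem_nil, or_false] at hc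
      rcases hc with rfl | rfl | rfl | rfl | rfl | rfl <;> rw [elw_one] <;> assumption) (by simp)
    have hya : rho (elw y5) 0 = 8006 := ((chain_cons _ _ _ _).1 k_y5a).1
    have hyb : rho (elw y5) 1 = 6531 := ((chain_cons _ _ _ _).1 k_y5b).1
    have hn : ¬ Com 0 (rho (elw y5) 0) := by rw [hya]; exact ncom_pt (x := .z) rfl m_0
    have hm : rho w 0 ∈ [8006, 8005, 8002, 3, 0] ∨ rho w 0 ∈ [6531, 6529, 2, 5268, 1] := split10 _ h1
    rcases hm with hm | hm
    · obtain ⟨i, hi⟩ := chain_mem k_y5a hm
      refine fix_of_comm hw (y := elw y5 ^ i) ((show Commute w (elw y5) from h).pow_right i).eq (o := 5) ?_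
        (by norm_num) hi
      rw [← pow_mul, mul_comm, pow_mul, pow5, one_pow]
    · obtain ⟨i, hi⟩ := chain_mem k_y5b hm
      exact (orbit_contra h (by norm_num) (by norm_num) hi hn (by rw [hyb]; exact comB_spec m_1)).elim
  have hall := fix_chain h k_y5a h0
  apply eq_one_of_ten
  intro x hx
  cases x
  case e => exact absurd rfl hx
  case a => exact ha'
  case b => exact hb'
  case c => exact hc
  case d => exact hd
  case h => exact hh'
  case i => exact hi'
  all_goals exact hall _ (by simp [pt])

end Cfsg.Agent.LThreeFi23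

end

-- merged: Cfsg.Agent.LThreeFi23.PrimesC
section

/-!
# The centralizer of `u = z0 j`; 3-elements of `Fi23` commuting with elements of order 5, 7, 13 (helper48)
-/

set_option autoImplicit false
set_option linter.constructorNameAsVariable false

namespace Cfsg.Agent.LThreeFi23

open Subgroup Cfsg Cfsg.Agent.Lib.PermNet Cfsg.Agent.Fischer.Fi23Hom
open Cfsg.Spor (Fi23)

theorem comm_z {w : Fi23} (h : rho w 0 = 0) : w * el .z = el .z * w := comm_el_of_fix (x := .z) rfl h

theorem comm_j {w : Fi23} (h : rho w 8006 = 8006) : w * el .j = el .j * w := comm_el_of_fix (x := .j) rfl h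

/-! ### `u = z0 j` -/

/-- the element `u = z0 j` of order 3 -/
def uu : Fi23 := el .z * el .j

theorem uu_eq : elw [.z, .j] = uu := by rw [elw_cons, elw_one]; rfl

theorem z_braid : el .z * el .j * el .z = el .j * el .z * el .j := Fischer.Fi23Class.z0_braid hle

theorem three_of_braid {x y : Fi23} (hx : x * x = 1) (hy : y * y = 1) (h : x * y * x = y * x * y) :
    (x * y) ^ 3 = 1 := by
  calc (x * y) ^ 3 = x * y * x * (y * x * y) := by simp only [pow_succ, pow_zero, one_mul, mul_assoc]
    _ = x * y * x * (x * y * x) := by rw [h]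
    _ = x * y * (x * x) * y * x := by group
    _ = x * (y * y) * x := by rw [hx]; group
    _ = 1 := by rw [hy, mul_one, hx]

theorem uu_pow : uu ^ 3 = 1 := three_of_braid (el_sq _) (el_sq _) z_braid

theorem uu_inv : uu⁻¹ = el .j * el .z := by
  unfold uu
  rw [mul_inv_rev, el_inv, el_inv]

theorem rho_uu0 : rho uu 0 = 8006 := by rw [← uu_eq]; exact ((chain_cons _ _ _ _).1 k_u).1

theorem rho_uu8 : rho uu 8006 = 1 := by
  rw [← uu_eq]; exact ((chain_cons _ _ _ _).1 ((chain_cons _ _ _ _).1 k_u).2).1

theorem T0 : T 0 = el .z := T_pt .z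

theorem T8006 : T 8006 = el .j := T_pt .j

theorem T1 : T 1 = el .z * el .j * el .z := by
  rw [← rho_uu8, T_act uu (by norm_num), T8006, uu_inv]
  unfold uu
  calc el .z * el .j * el .j * (el .j * el .z) = el .z * (el .j * el .j) * el .j * el .z := by group
    _ = el .z * el .j * el .z := by rw [el_sq, mul_one]

theorem T1' : T 1 = el .j * el .z * el .j := by rw [T1, z_braid]

/-- the points fixed by `u` commute with `z0`, `j` and `z0 j z0` -/
theorem fix_uu {q : ℕ} (hq : q < 31671) (h : rho uu q = q) : rho (el .z) q = q ∧ rho (el .j) q = q ∧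
    rho (T 1) q = q := by
  have hz : rho (el .z) q = q := by
    by_contra hz
    have := (pchk_mem e_zj q).1 ⟨hq, by
      rw [pat_cons, pat_cons, uu_eq, elw_one]
      refine ⟨?_, ?_, fun c hc => absurd hc (by simp)⟩
      · simp [h]
      · simpa using hz⟩
    exact absurd this (by simp)
  have hj : rho (el .j) q = q := by
    have h1 : el .j = el .z * uu := by
      unfold uu
      rw [← mul_assoc, el_sq, one_mul]
    rw [h1, map_mul, Equiv.Perm.mul_apply, h, hz]
  refine ⟨hz, hj, ?_⟩
  rw [T1, map_mul, map_mul, Equiv.Perm.mul_apply, Equiv.Perm.mul_apply, hz, hj, hz]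

theorem uu_comm_el (x : Lt) (h1 : x ≠ .z) (h2 : x ≠ .j) (h3 : x ≠ .g) : uu * el x = el x * uu :=
  ((show Commute (el .z) (el x) from z_comm_el x h2).mul_left
    (show Commute (el .j) (el x) from j_comm_el x h1 h3)).eq

/-- an element commuting with `u` permutes `z0`, `j`, `z0 j z0` -/
theorem perm_three {w : Fi23} (h : w * uu = uu * w) {p : ℕ} (hp : p ∈ [0, 1, 8006]) :
    rho w p ∈ [0, 1, 8006] := by
  have hp' : p < 31671 := by
    simp only [List.mem_cons, List.not_mem_nil, or_false] at hp
    rcases hp with rfl | rfl | rfl <;> norm_num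
  have h1 : ∀ q < 31671, rho uu q = q → Com p q := by
    intro q hq hu
    obtain ⟨h2, h3, h4⟩ := fix_uu hq hu
    simp only [List.mem_cons, List.not_mem_nil, or_false] at hp
    unfold Com
    rcases hp with rfl | rfl | rfl
    · rw [T0]; exact h2
    · exact h4
    · rw [T8006]; exact h3
  have h2 : ∀ q < 31671, rho uu q = q → Com (rho w p) q := by
    intro q hq hu
    have h3 : q = rho w (rho w⁻¹ q) := by
      rw [← Equiv.Perm.mul_apply, ← map_mul, mul_inv_cancel, map_one]
      rfl
    rw [h3, com_act w hp']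
    apply h1 _ (act_lt _ hq)
    exact (fix_of_comm_fix (w := uu) (y := w⁻¹) ((show Commute uu w from h.symm).inv_right).eq hu)
  refine (pchk_mem e_P1 _).1 ⟨act_lt w hp', ?_⟩
  have h3 : ∀ x : Lt, x ≠ .z → x ≠ .j → x ≠ .g → rho (el x) (rho w p) = rho w p := by
    intro x hx1 hx2 hx3
    have h4 := h2 (pt x) (pt_lt x) ((fix_pt_iff uu x).2 (uu_comm_el x hx1 hx2 hx3))
    rw [com_comm (act_lt w hp') (pt_lt x), com_pt_iff] at h4
    exact h4
  intro c hc
  simp only [List.mem_cons, List.not_mem_nil, or_false] at hc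
  rcases hc with rfl | rfl | rfl | rfl | rfl | rfl | rfl | rfl <;>
    (rw [elw_one]; simp only [Bool.false_eq_true, iff_false, ne_eq, not_not];
     exact h3 _ (by decide) (by decide) (by decide))

theorem LU0 {w : Fi23} (h : w * uu = uu * w) :
    ∃ i : ℕ, rho ((uu ^ i)⁻¹ * w) 0 = 0 ∧ rho ((uu ^ i)⁻¹ * w) 8006 = 8006 := by
  have h1 := perm_three h (p := 0) (by simp)
  obtain ⟨i, hi⟩ : ∃ i : ℕ, rho w 0 = rho (uu ^ i) 0 := by
    simp only [List.mem_cons, List.not_mem_nil, or_false] at h1
    rcases h1 with h1 | h1 | h1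
    · exact ⟨0, by rw [h1, pow_zero, map_one]; rfl⟩
    · exact ⟨2, by rw [h1, pow_two, map_mul, Equiv.Perm.mul_apply, rho_uu0, rho_uu8]⟩
    · exact ⟨1, by rw [h1, pow_one, rho_uu0]⟩
  have h2 : rho ((uu ^ i)⁻¹ * w) 0 = 0 := by
    rw [map_mul, Equiv.Perm.mul_apply, hi, map_inv, Equiv.Perm.inv_eq_iff_eq]
  refine ⟨i, h2, ?_⟩
  have h3 : ((uu ^ i)⁻¹ * w) * uu = uu * ((uu ^ i)⁻¹ * w) :=
    ((((Commute.refl uu).pow_left i).inv_left).mul_left (show Commute w uu from h)).eq
  rw [← rho_uu0]
  exact fix_of_comm_fix h3 h2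

/-- an element commuting with the product of two noncommuting transpositions -/
theorem LU {p q : ℕ} (hp : p < 31671) (hq : q < 31671) (h : ¬ Com p q) {w : Fi23}
    (hw : w * (T p * T q) = (T p * T q) * w) :
    ∃ i : ℕ, rho (((T p * T q) ^ i)⁻¹ * w) p = p ∧ rho (((T p * T q) ^ i)⁻¹ * w) q = q := by
  obtain ⟨g, hg, hg'⟩ := pair_trans (p := 0) (q := 8006) (by norm_num) (by norm_num) hp hq
    (ncom_pt (x := .z) rfl m_0) h
  have hT : T p * T q = g * uu * g⁻¹ := by
    rw [← hg, ← hg', T_act g (by norm_num), T_act g (by norm_num), T0, T8006]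
    unfold uu
    group
  have hw' : (g⁻¹ * w * g) * uu = uu * (g⁻¹ * w * g) := by
    rw [hT] at hw
    calc (g⁻¹ * w * g) * uu = g⁻¹ * (w * (g * uu * g⁻¹)) * g := by group
      _ = g⁻¹ * (g * uu * g⁻¹ * w) * g := by rw [hw]
      _ = uu * (g⁻¹ * w * g) := by group
  obtain ⟨i, h1, h2⟩ := LU0 hw'
  have h3 : ((T p * T q) ^ i)⁻¹ * w = g * ((uu ^ i)⁻¹ * (g⁻¹ * w * g)) * g⁻¹ := by
    rw [hT, conj_pow]
    group
  refine ⟨i, ?_, ?_⟩
  · rw [h3, map_mul, map_mul, Equiv.Perm.mul_apply, Equiv.Perm.mul_apply, map_inv,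
      Equiv.Perm.inv_eq_iff_eq.2 hg.symm, h1, hg]
  · rw [h3, map_mul, map_mul, Equiv.Perm.mul_apply, Equiv.Perm.mul_apply, map_inv,
      Equiv.Perm.inv_eq_iff_eq.2 hg'.symm, h2, hg']

/-! ### 13 -/

theorem Tel_uu : Tel uu := Tel.of_three uu_pow

/-- a 3-element commuting with `y13` is a power of `u` -/
theorem r13 {w : Fi23} (hw : Tel w) (h : w * elw y13 = elw y13 * w) : ∃ i : ℕ, w = uu ^ i := by
  have key : ∀ p ∈ [0, 1, 8006], rho w p ∈ [0, 1, 8006] := by
    intro p hp
    refine pchk_act e_y13 ?_ hp
    intro c hc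
    simp only [List.mem_cons, List.not_mem_nil, or_false] at hc
    rw [hc]
    exact h
  have h1 : w * uu * w⁻¹ = T (rho w 0) * T (rho w 8006) := by
    rw [T_act w (by norm_num), T_act w (by norm_num), T0, T8006]
    unfold uu
    group
  have hz := el_sq .z
  have hj := el_sq .j
  have hwu : w * uu = uu * w := by
    apply comm_of_conj_inv hw
    rw [h1]
    have ha := key 0 (by simp)
    have hb := key 8006 (by simp)
    have hne : rho w 0 ≠ rho w 8006 := fun h => absurd ((rho w).injective h) (by norm_num)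
    simp only [List.mem_cons, List.not_mem_nil, or_false] at ha hb
    rcases ha with ha | ha | ha <;> rcases hb with hb | hb | hb
    · exact absurd (ha.trans hb.symm) hne
    · right
      rw [ha, hb, T0, T1, uu_inv]
      calc el .z * (el .z * el .j * el .z) = (el .z * el .z) * el .j * el .z := by group
        _ = el .j * el .z := by rw [hz, one_mul]
    · left
      rw [ha, hb, T0, T8006]
      rfl
    · left
      rw [ha, hb, T0, T1]
      calc el .z * el .j * el .z * el .z = el .z * el .j * (el .z * el .z) := by group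
        _ = uu := by rw [hz, mul_one]; rfl
    · exact absurd (ha.trans hb.symm) hne
    · right
      rw [ha, hb, T1', T8006, uu_inv]
      calc el .j * el .z * el .j * el .j = el .j * el .z * (el .j * el .j) := by group
        _ = el .j * el .z := by rw [hj, mul_one]
    · right
      rw [ha, hb, T0, T8006, uu_inv]
    · left
      rw [ha, hb, T8006, T1']
      calc el .j * (el .j * el .z * el .j) = (el .j * el .j) * el .z * el .j := by group
        _ = uu := by rw [hj, one_mul]; rfl
    · exact absurd (ha.trans hb.symm) hne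
  obtain ⟨i, h2, h3⟩ := LU0 hwu
  refine ⟨i, ?_⟩
  have h4 : Commute ((uu ^ i)⁻¹) w := (((show Commute uu w from hwu.symm).pow_left i).inv_left)
  have h5 : uu * elw y13 = elw y13 * uu := by
    apply comm_elw
    intro x hx
    exact uu_comm_el x (by rintro rfl; exact absurd hx (by decide)) (by rintro rfl; exact absurd hx (by decide))
      (by rintro rfl; exact absurd hx (by decide))
  have h6 : (uu ^ i)⁻¹ * w = 1 := by
    apply r13core
    · exact (((Tel_uu.pow i).inv)).mul hw h4.eq
    · exact ((((show Commute uu (elw y13) from h5).pow_left i).inv_left).mul_left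
        (show Commute w (elw y13) from h)).eq
    · exact comm_z h2
    · exact comm_j h3
  exact (inv_mul_eq_one.1 h6).symm

/-! ### 7 -/

theorem uu_ne_one : uu ≠ 1 := by
  intro h
  have := rho_uu0
  rw [h, map_one] at this
  exact absurd this (by norm_num)

/-- a 3-element commuting with `y7` is conjugate to a power of `u` -/
theorem r7 {w : Fi23} (hw : Tel w) (h : w * elw y7 = elw y7 * w) : ∃ g : Fi23, ∃ i : ℕ, g * w * g⁻¹ = uu ^ i := by
  have h5 : uu * elw y7 = elw y7 * uu := by
    apply comm_elw
    intro x hx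
    exact uu_comm_el x (by rintro rfl; exact absurd hx (by decide)) (by rintro rfl; exact absurd hx (by decide))
      (by rintro rfl; exact absurd hx (by decide))
  obtain ⟨g, -, hg⟩ := conj_of_normalizer (centralizer ({elw y7} : Set Fi23)) (zpowers uu)
    (by
      rw [zpowers_le, mem_centralizer_singleton_iff]
      exact h5)
    (by
      obtain ⟨m, -, hm⟩ := (Nat.dvd_prime_pow Nat.prime_three).1
        (orderOf_dvd_of_pow_eq_one (show uu ^ 3 ^ 1 = 1 by rw [pow_one]; exact uu_pow))
      exact IsPGroup.of_card (n := m) (by rw [Nat.card_zpowers, hm]))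
    (by
      intro w hwC hw hn
      rw [mem_centralizer_singleton_iff] at hwC
      have hwu : w * uu = uu * w := by
        apply comm_of_conj_inv hw
        obtain ⟨k, hk⟩ := hn uu (mem_zpowers _)
        change uu ^ k = w * uu * w⁻¹ at hk
        have h3 : uu ^ (3 : ℤ) = 1 := by exact_mod_cast uu_pow
        have hk' : uu ^ k = uu ^ (k % 3) := by
          conv_lhs => rw [← Int.emod_add_mul_ediv k 3, zpow_add, zpow_mul, h3, one_zpow, mul_one]
        have h4 : k % 3 = 0 ∨ k % 3 = 1 ∨ k % 3 = 2 := by omega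
        rcases h4 with h4 | h4 | h4
        · exfalso
          rw [hk', h4, zpow_zero] at hk
          apply uu_ne_one
          calc uu = w⁻¹ * (w * uu * w⁻¹) * w := by group
            _ = 1 := by rw [← hk]; group
        · left
          rw [← hk, hk', h4, zpow_one]
        · right
          rw [← hk, hk', h4]
          have : uu ^ (2 : ℤ) * uu = 1 := by
            rw [← zpow_add_one]
            exact h3
          exact eq_inv_of_mul_eq_one_left this
      obtain ⟨i, h2, h3⟩ := LU0 hwu
      have h4 : Commute ((uu ^ i)⁻¹) w := (((show Commute uu w from hwu.symm).pow_left i).inv_left)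
      have h6 : (uu ^ i)⁻¹ * w = 1 := by
        apply r7core
        · exact (((Tel_uu.pow i).inv)).mul hw h4.eq
        · exact ((((show Commute uu (elw y7) from h5).pow_left i).inv_left).mul_left
            (show Commute w (elw y7) from hwC)).eq
        · exact comm_z h2
        · exact comm_j h3
      rw [← inv_mul_eq_one.1 h6]
      exact pow_mem (mem_zpowers _) i)
    (mem_centralizer_singleton_iff.2 h) hw
  obtain ⟨k, hk⟩ := hg
  change uu ^ k = _ at hk
  refine ⟨g, (k % 3).toNat, ?_⟩
  have h3 : uu ^ (3 : ℤ) = 1 := by exact_mod_cast uu_pow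
  have hk' : uu ^ k = uu ^ (k % 3) := by
    conv_lhs => rw [← Int.emod_add_mul_ediv k 3, zpow_add, zpow_mul, h3, one_zpow, mul_one]
  rw [← hk, hk', ← zpow_natCast, Int.toNat_of_nonneg (by omega)]

end Cfsg.Agent.LThreeFi23

end
end

private theorem dce_2ef52d79ff50 : _root_.True := by
  try have : _root_.True := by simp only [_root_.Cfsg.Agent.LThreeFi23.pt.eq_9]
  try have : _root_.True := by simp only [_root_.Cfsg.Agent.LThreeFi23.pt.eq_7]
  try have : _root_.True := by simp only [_root_.Cfsg.Agent.LThreeFi23.pt.eq_3]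
  try have : _root_.True := by simp only [_root_.Cfsg.Agent.LThreeFi23.pt.eq_2]
  try have : _root_.True := by simp only [_root_.Cfsg.Agent.LThreeFi23.pt.eq_5]
  try have : _root_.True := by simp only [_root_.Cfsg.Agent.LThreeFi23.pt.eq_1]
  try have : _root_.True := by simp only [_root_.Cfsg.Agent.LThreeFi23.pt.eq_6]
  try have : _root_.True := by simp only [_root_.Cfsg.Agent.LThreeFi23.pt.eq_4]
  try have : _root_.True := by simp only [_root_.Cfsg.Agent.LThreeFi23.pt.eq_8]
  try have : _root_.True := by simp only [_root_.Cfsg.Agent.LThreeFi23.pt.eq_11]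
  try have : _root_.True := by simp only [_root_.Cfsg.Agent.LThreeFi23.pt.eq_10]
  try have : _root_.True := by simp only [_root_.Cfsg.Agent.LThreeFi23.mor.eq_1]
  try have : _root_.True := by simp only [_root_.Cfsg.Agent.LThreeFi23.L11.eq_1]
  exact _root_.True.intro
end

-- part: H837/ThrChk
section
set_option linter.all false
open scoped Cfsg.Agent.FastGrp

/-!
# Points of the degree 31671 action commuting with many points of a list (kernel; helper837)

`lev ws full K n` : a list of `K` masks; the mask with index `k` contains all points which commute with at least `k + 1` of the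
points `rho (elw (ws i)) 0`, `i < n`.
-/

set_option autoImplicit false
set_option maxRecDepth 100000

namespace Cfsg.Agent.H837.Thr

open Cfsg.Agent.Lib.PermNet Cfsg.Agent.LThreeFi23 Cfsg.Agent.Fischer.Fi23Hom

/-- `seq` with values in lists -/
noncomputable def seqL (n : ℕ) (k : ℕ → List ℕ) : List ℕ := Bool.rec (k n) (k n) (Nat.beq n 0)

theorem seqL_eq (n : ℕ) (k : ℕ → List ℕ) : seqL n k = k n := by
  unfold seqL; cases Nat.beq n 0 <;> rfl

/-- one more mask `M` -/
noncomputable def up (M : ℕ) (L : List ℕ) : ℕ → List ℕ :=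
  List.rec (motive := fun _ => ℕ → List ℕ) (fun _ => [])
    (fun c _ ih prev => seqL (Nat.lor c (Nat.land M prev)) fun x => x :: ih c) L

theorem up_cons (M c : ℕ) (L : List ℕ) (prev : ℕ) : up M (c :: L) prev = (c ||| (M &&& prev)) :: up M L c := by
  show seqL (Nat.lor c (Nat.land M prev)) (fun x => x :: up M L c) = _
  rw [seqL_eq]
  rfl

theorem up_getD (M : ℕ) (L : List ℕ) (prev : ℕ) (k : ℕ) (hk : k < L.length) :
    (up M L prev).getD k 0 = L.getD k 0 ||| (M &&& (prev :: L).getD k 0) := by
  induction L generalizing prev k with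
  | nil => exact absurd hk (by simp)
  | cons c L ih =>
    rw [up_cons]
    cases k with
    | zero => rfl
    | succ k =>
      have := ih c k (by simpa using hk)
      simpa only [_root_.List.getD_eq_getElem?_getD, _root_.List.getElem?_cons_succ] using this

theorem up_length (M : ℕ) (L : List ℕ) (prev : ℕ) : (up M L prev).length = L.length := by
  induction L generalizing prev with
  | nil => rfl
  | cons c L ih => rw [up_cons, List.length_cons, List.length_cons, ih]

/-- all points -/
noncomputable def all1 : ℕ := Nat.sub (Nat.pow 2 32768) 1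

/-- the levels -/
noncomputable def lev (ws : List (List Lt)) (K n : ℕ) : List ℕ :=
  Nat.rec (motive := fun _ => List ℕ) (List.replicate K 0)
    (fun n ih => seqL (Mw (ws.getD n [])) fun M => up M ih all1) n

theorem lev_zero (ws : List (List Lt)) (K : ℕ) : lev ws K 0 = List.replicate K 0 := rfl

theorem lev_succ (ws : List (List Lt)) (K n : ℕ) : lev ws K (n + 1) = up (Mw (ws.getD n [])) (lev ws K n) all1 := by
  show seqL (Mw (ws.getD n [])) (fun M => up M (lev ws K n) all1) = _
  rw [seqL_eq]

theorem lev_length (ws : List (List Lt)) (K n : ℕ) : (lev ws K n).length = K := by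
  induction n with
  | zero => rw [lev_zero, List.length_replicate]
  | succ n ih => rw [lev_succ, up_length, ih]

seal _root_.Nat.pow in
theorem all1_testBit {q : ℕ} (hq : q < 31671) : all1.testBit q = true := by
  show (2 ^ 32768 - 1).testBit q = true
  rw [Nat.testBit_two_pow_sub_one]
  exact decide_eq_true (by omega)

open Classical in
/-- the number of the masks containing `q` -/
noncomputable def cnt (ws : List (List Lt)) (q n : ℕ) : ℕ :=
  ((Finset.range n).filter fun i => Com (rho (elw (ws.getD i [])) 0) q).card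

open Classical in
seal _root_.Nat.pow in
theorem lev_spec (ws : List (List Lt)) (K n : ℕ) {q : ℕ} (hq : q < 31671) :
    ∀ k < K, k + 1 ≤ cnt ws q n → ((lev ws K n).getD k 0).testBit q = true := by
  induction n with
  | zero =>
    intro k _ h
    exact absurd h (by simp only [cnt, _root_.Cfsg.Agent.H837.Thr.cnt, _root_.List.getD_eq_getElem?_getD, _root_.Finset.range_zero, _root_.Finset.filter_empty, _root_.Finset.card_empty, _root_.nonpos_iff_eq_zero, _root_.Nat.add_eq_zero_iff, _root_.one_ne_zero, _root_.and_false, _root_.not_false_eq_true])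
  | succ n ih =>
    intro k hk h
    rw [lev_succ, up_getD _ _ _ _ (by rw [lev_length]; exact hk), Nat.testBit_or, Nat.testBit_and, Bool.or_eq_true,
      Bool.and_eq_true]
    by_cases hc : Com (rho (elw (ws.getD n [])) 0) q
    · have h1 : cnt ws q (n + 1) = cnt ws q n + 1 := by
        unfold cnt
        rw [Finset.range_add_one, Finset.filter_insert, if_pos hc, Finset.card_insert_of_notMem (by simp only [_root_.List.getD_eq_getElem?_getD, _root_.Finset.mem_filter, _root_.Finset.mem_range, _root_.lt_self_iff_false, _root_.false_and, _root_.not_false_eq_true])]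
      rw [h1] at h
      right
      refine ⟨((Mw_msk (ws.getD n [])) q hq).2 hc, ?_⟩
      cases k with
      | zero => exact all1_testBit hq
      | succ k => exact ih k (by omega) (by omega)
    · have h1 : cnt ws q (n + 1) = cnt ws q n := by
        unfold cnt
        rw [Finset.range_add_one, Finset.filter_insert, if_neg hc]
      rw [h1] at h
      left
      exact ih k hk h


/-- words for the 23 points `BasChk.lab (some i)` -/
def ws23 : List (List Lt) :=
  [[.b, .c, .d, .e, .f, .g, .j, .z, .a, .b, .c, .d, .e, .f, .g, .j],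
  [.d, .e, .f, .g, .j, .z, .c, .d, .e, .f, .g, .j],
  [.f, .g, .j, .z, .e, .f, .g, .j],
  [.d, .e, .f, .g, .j, .z, .h, .d, .e, .f, .g, .j],
  [.j, .z, .g, .j],
  [.f, .g, .j, .z, .d, .h, .c, .d, .e, .f, .g, .j],
  [.b, .c, .j, .g, .f, .e, .d, .h, .a, .b, .c, .d, .e, .f, .g, .j],
  [.i, .h, .d, .c, .e, .d, .h, .i, .d, .h, .c, .b, .d, .c, .j, .g, .f, .e, .d, .h, .a, .b, .c, .d, .e, .f, .g, .j],
  [.j, .g, .f, .e, .d, .h, .c, .d, .e, .f, .g, .j],
  [.j, .z, .i, .h, .d, .c, .e, .d, .h, .i, .b, .c, .f, .e, .d, .h, .a, .b, .c, .d, .e, .f, .g, .j],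
  [.d, .h, .c, .b, .d, .c, .j, .g, .f, .e, .d, .h, .a, .b, .c, .d, .e, .f, .g, .j],
  [.j, .z, .f, .e, .d, .h, .c, .d, .e, .f, .g, .j],
  [.i, .h, .f, .e, .d, .c, .g, .f, .e, .d, .h, .i, .d, .h, .c, .b, .d, .c, .j, .g, .f, .e, .d, .h, .a, .b, .c, .d, .e, .f, .g, .j],
  [],
  [.f, .g, .j, .z, .e, .d, .h, .c, .b, .d, .c, .e, .d, .h, .a, .b, .c, .d, .e, .f, .g, .j],
  [.i, .h, .d, .c, .e, .d, .h, .i, .b, .c, .j, .g, .f, .e, .d, .h, .a, .b, .c, .d, .e, .f, .g, .j],
  [.d, .h, .i, .e, .d, .h, .f, .e, .d, .c, .g, .f, .e, .d, .h, .i, .b, .c, .j, .g, .f, .e, .d, .h, .a, .b, .c, .d, .e, .f, .g, .j],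
  [.f, .g, .j, .z, .b, .c, .d, .h, .a, .b, .c, .d, .e, .f, .g, .j],
  [.i, .h, .f, .e, .d, .c, .g, .f, .e, .d, .h, .i, .b, .c, .j, .g, .f, .e, .d, .h, .a, .b, .c, .d, .e, .f, .g, .j],
  [.j, .z, .b, .c, .f, .e, .d, .h, .a, .b, .c, .d, .e, .f, .g, .j],
  [.d, .c, .b, .e, .d, .c, .j, .g, .f, .e, .d, .h, .a, .b, .c, .d, .e, .f, .g, .j],
  [.i, .h, .d, .c, .e, .d, .h, .i, .d, .c, .b, .e, .d, .c, .j, .g, .f, .e, .d, .h, .a, .b, .c, .d, .e, .f, .g, .j],
  [.d, .h, .i, .c, .d, .h, .f, .e, .d, .c, .g, .f, .e, .d, .h, .i, .b, .c, .j, .g, .f, .e, .d, .h, .a, .b, .c, .d, .e, .f, .g, .j]]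

/-- the 23 points -/
def lb23 : List ℕ := [11589, 8003, 8001, 7999, 8005, 3153, 174, 6796, 52, 7159, 726, 899, 14202, 0, 2524, 2828, 15822,
  2663, 7687, 749, 714, 6580, 15821]

/-- the words give the points -/
noncomputable def ptsB (ws : List (List Lt)) (l : List ℕ) (n : ℕ) : Bool :=
  Nat.rec (motive := fun _ => Bool) true (fun k ih => and ih (Nat.beq (ptw (ws.getD k []) 0) (l.getD k 0))) n

theorem ptsB_spec {ws : List (List Lt)} {l : List ℕ} {n : ℕ} (h : ptsB ws l n = true) :
    ∀ k < n, rho (elw (ws.getD k [])) 0 = l.getD k 0 := by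
  induction n with
  | zero => intro k hk; exact absurd hk (Nat.not_lt_zero _)
  | succ n ih =>
    have h' : and (ptsB ws l n) (Nat.beq (ptw (ws.getD n []) 0) (l.getD n 0)) = true := h
    rw [Bool.and_eq_true] at h'
    intro k hk
    rcases Nat.lt_succ_iff_lt_or_eq.1 hk with h1 | rfl
    · exact ih h'.1 k h1
    · rw [← ptw_eq]
      exact Nat.eq_of_beq_eq_true h'.2

theorem pts23 : ptsB ws23 lb23 23 = true := by decide +kernel

/-- **a point commuting with at least 8 of the 23 points is one of them** (kernel) -/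
theorem lev8 : Nat.beq ((lev ws23 8 23).getD 7 0) (mor lb23) = true := by decide +kernel

end Cfsg.Agent.H837.Thr

private theorem dce_9819d325c5a1 : _root_.True := by
  try have : _root_.True := by simp only [_root_.Cfsg.Agent.H837.Thr.cnt.eq_1]
  exact _root_.True.intro
end
end
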