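import Cfsg.Agent.H837.ThrChk
import Cfsg.Agent.LThreeFi23.CentUuComp
import Cfsg.Agent.KFacts.FiTTh.BasInv
import Cfsg.Prelude.Def_FischerSpaces
import Cfsg.Agent.FastGrp
import Cfsg.Agent.Prune
set_option linter.all false

section
prune_inst 0x7f00000000000000000000000000000000000000000000000000000000000000000000000000000000000000000000000000000000000000000000000000000000000000000000000000000000000000003fffffffffffffffffffffffffffbeffbdffffffff

-- part: H837/Base23
section
set_option linter.all false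
open scoped Cfsg.Agent.FastGrp

/-!
# Commuting transpositions of `Fi23` (helper837)

`e (some i)`, `i : ZMod 23` : the 23 commuting transpositions of the library (`KFacts.FiTTh.BasFi`).
* `exists_conj_base` : every set of pairwise commuting transpositions is conjugate to a subset of the 23 transpositions;
* `mem_base_of_eight` : a transposition commuting with at least 8 of the 23 transpositions is one of them.
-/

set_option autoImplicit false
set_option linter.constructorNameAsVariable false

namespace Cfsg.Agent.H837.Base23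

open Cfsg Subgroup
open Cfsg.Agent.KFacts.FiTTh.BasDef Cfsg.Agent.KFacts.FiTTh.BasFi Cfsg.Agent.KFacts.FiTTh.BasChk
open Cfsg.Agent.KFacts.FiTTh.BasInv (base loc hodd)
open Cfsg.Agent.LThreeFi23 Cfsg.Agent.Fischer.Fi23Hom
open Cfsg.Agent.Fischer.Fi23Z (z0)
open Cfsg.Agent.H837.Thr
open Cfsg.Spor (Fi23)

/-! ### Transpositions and points -/

theorem exists_T {t : Fi23} (ht : IsConj z0 t) : ∃ p < 31671, t = T p := by
  obtain ⟨g, hg⟩ := isConj_iff.1 ht
  refine ⟨rho g 0, act_lt g (by norm_num), ?_⟩
  rw [T_eq rfl, hg]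

theorem isConj_T {p : ℕ} (hp : p < 31671) : IsConj z0 (T p) := by
  obtain ⟨g, hg⟩ := exists_rep hp
  rw [T_eq hg]
  exact isConj_iff.2 ⟨g, rfl⟩

theorem isConj_el (x : Lt) : IsConj z0 (el x) := by
  rw [← T_pt x]
  exact isConj_T (pt_lt x)

theorem sq_of {t : Fi23} (ht : IsConj z0 t) : t * t = 1 := by
  obtain ⟨p, hp, rfl⟩ := exists_T ht
  exact T_sq hp

theorem inv_of {t : Fi23} (ht : IsConj z0 t) : t⁻¹ = t := inv_eq_of_mul_eq_one_left (sq_of ht)

theorem isConj_conj {t : Fi23} (ht : IsConj z0 t) (g : Fi23) : IsConj z0 (g * t * g⁻¹) :=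
  ht.trans (isConj_iff.2 ⟨g, rfl⟩)

theorem ne_one_of {t : Fi23} (ht : IsConj z0 t) : t ≠ 1 := by
  intro h
  rw [h] at ht
  obtain ⟨g, hg⟩ := isConj_iff.1 ht
  apply z0_ne
  calc z0 = g⁻¹ * (g * z0 * g⁻¹) * g := by group
    _ = 1 := by rw [hg]; group

theorem braid_of {s t : Fi23} (hs : IsConj z0 s) (ht : IsConj z0 t) (h : ¬ Commute s t) :
    s * t * s = t * s * t := by
  obtain ⟨p, hp, rfl⟩ := exists_T hs
  obtain ⟨q, hq, rfl⟩ := exists_T ht
  exact braid hp hq fun h1 => h ((com_iff hq).1 h1)

theorem e_eq_T (i : ZMod 23) : e (some i) = T (lab (some i)) := by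
  obtain ⟨g, hg, he⟩ := exists_e i
  rw [← he, T_eq hg]

theorem isConj_e (i : ZMod 23) : IsConj z0 (e (some i)) := by
  rw [e_eq_T]
  exact isConj_T (lab_lt i)

/-! ### Transpositions normalizing the base -/

/-- a transposition which normalizes `A e` belongs to the base -/
theorem mem_base_of_normalizer {t : Fi23} (ht : IsConj z0 t) (hN : t ∈ normalizer (A e : Set Fi23)) :
    ∃ i : ZMod 23, t = e (some i) := by
  obtain ⟨m, -, hm⟩ := base.exists_perm hN
  have hc : ∀ p, t * e p = e p * t := by
    intro p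
    cases p with
    | none => rw [base.zero, mul_one, one_mul]
    | some i =>
      by_contra hc
      have hb := braid_of ht (isConj_e i) hc
      have h1 := hm (some i)
      rw [inv_of ht, hb] at h1
      have h2 : (e (some i) * t * e (some i)) * e (some i) = e (some i) * (e (some i) * t * e (some i)) := by
        rw [h1]; exact e_comm _ _
      apply hc
      have h3 := base.sq (some i)
      calc t * e (some i) = (e (some i) * e (some i)) * (t * e (some i)) := by rw [h3, one_mul]
        _ = e (some i) * (e (some i) * t * e (some i)) := by simp only [mul_assoc]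
        _ = e (some i) * t * e (some i) * e (some i) := h2.symm
        _ = e (some i) * t * (e (some i) * e (some i)) := by simp only [mul_assoc]
        _ = e (some i) * t := by rw [h3, mul_one]
  have hA : t ∈ A e := base.cen t hc
  obtain ⟨g, hg⟩ := isConj_iff.1 ht
  rw [← e_z] at hg
  obtain ⟨q, hq⟩ := base.nrm g (some 13) (by rw [hg]; exact hA)
  rw [hg] at hq
  cases q with
  | none => exact absurd (hq.trans base.zero) (ne_one_of ht)
  | some i => exact ⟨i, hq⟩

/-- the subgroup generated by commuting involutions is a 2-group -/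
theorem isPGroup_closure {G : Type*} [Group G] {E : Set G} (h2 : ∀ t ∈ E, t * t = 1)
    (hc : ∀ s ∈ E, ∀ t ∈ E, Commute s t) : IsPGroup 2 ↥(closure E) := by
  have hcc : ∀ x ∈ closure E, ∀ y ∈ closure E, Commute x y := by
    intro x hx y hy
    exact Subgroup.closure_induction₂ (p := fun x y _ _ => Commute x y) (fun x y hx hy => hc x hx y hy)
      (fun x _ => Commute.one_left x) (fun x _ => Commute.one_right x)
      (fun x y z _ _ _ h1 h2 => h1.mul_left h2) (fun x y z _ _ _ h1 h2 => h1.mul_right h2)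
      (fun x y _ _ h => h.inv_left) (fun x y _ _ h => h.inv_right) hx hy
  have hs : ∀ x ∈ closure E, x * x = 1 := by
    intro x hx
    induction hx using Subgroup.closure_induction with
    | mem x hx => exact h2 x hx
    | one => exact mul_one 1
    | mul x y hx hy ihx ihy =>
      have := hcc y hy x hx
      calc x * y * (x * y) = x * (y * x) * y := by simp only [mul_assoc]
        _ = x * (x * y) * y := by rw [this.eq]
        _ = (x * x) * (y * y) := by simp only [mul_assoc]
        _ = 1 := by rw [ihx, ihy, mul_one]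
    | inv x hx ih => rw [← mul_inv_rev, ih, inv_one]
  intro x
  refine ⟨1, ?_⟩
  rw [pow_one, pow_two]
  exact Subtype.ext (hs x x.2)

/-- **Every set of pairwise commuting transpositions is conjugate to a subset of the 23 transpositions `e (some i)`.** -/
theorem exists_conj_base {E : Set Fi23} (hE : ∀ t ∈ E, IsConj z0 t) (hc : ∀ s ∈ E, ∀ t ∈ E, Commute s t) :
    ∃ g : Fi23, ∀ t ∈ E, ∃ i : ZMod 23, g * t * g⁻¹ = e (some i) := by
  have hfin : Finite Fi23 := finG
  obtain ⟨P, hP⟩ := (isPGroup_closure (fun t ht => sq_of (hE t ht)) hc).exists_le_sylow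
  obtain ⟨P0, hP0⟩ := Cfsg.Agent.KFacts.FiTTh.Uniq.Loc.exists_sylow hodd
  obtain ⟨g, hg⟩ := MulAction.exists_smul_eq Fi23 P P0
  refine ⟨g, fun t ht => mem_base_of_normalizer (isConj_conj (hE t ht) g) (hP0 ?_)⟩
  have h1 : t ∈ (P : Subgroup Fi23) := hP (subset_closure ht)
  rw [← hg]
  have h2 : g * t * g⁻¹ = MulAut.conj g • t := rfl
  rw [h2]
  exact Subgroup.smul_mem_pointwise_smul t (MulAut.conj g) _ h1

/-! ### Eight of the 23 transpositions -/

theorem lab_eq (i : ZMod 23) : lab (some i) = lb23.getD i.val 0 := by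
  revert i; decide +kernel

theorem rho_ws (i : ZMod 23) : rho (elw (ws23.getD i.val [])) 0 = lab (some i) := by
  rw [ptsB_spec pts23 i.val (ZMod.val_lt i), lab_eq]

theorem mem_lb {q : ℕ} (h : q ∈ lb23) : ∃ i : ZMod 23, lab (some i) = q := by
  have : ∀ q ∈ lb23, ∃ i : ZMod 23, lab (some i) = q := by decide +kernel
  exact this q h

open Classical in
/-- **A transposition commuting with at least 8 of the 23 transpositions is one of them.** -/
theorem mem_base_of_eight {t : Fi23} (ht : IsConj z0 t) {S : Finset (ZMod 23)} (hS : 8 ≤ S.card)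
    (hc : ∀ i ∈ S, Commute t (e (some i))) : ∃ i : ZMod 23, t = e (some i) := by
  obtain ⟨q, hq, rfl⟩ := exists_T ht
  have h1 : 8 ≤ cnt ws23 q 23 := by
    unfold cnt
    have h2 : S.image ZMod.val ⊆ (Finset.range 23).filter fun i => Com (rho (elw (ws23.getD i [])) 0) q := by
      intro k hk
      obtain ⟨i, hi, rfl⟩ := Finset.mem_image.1 hk
      rw [Finset.mem_filter, Finset.mem_range]
      refine ⟨ZMod.val_lt i, ?_⟩
      rw [rho_ws, com_iff hq, ← e_eq_T]
      exact (hc i hi).symm.eq
    calc 8 ≤ S.card := hS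
      _ = (S.image ZMod.val).card := (Finset.card_image_of_injective S (ZMod.val_injective 23)).symm
      _ ≤ _ := Finset.card_le_card h2
  have h3 := lev_spec ws23 8 23 hq 7 (by norm_num) h1
  rw [Nat.eq_of_beq_eq_true lev8, testBit_mor] at h3
  obtain ⟨i, hi⟩ := mem_lb h3
  exact ⟨i, by rw [e_eq_T, hi]⟩

end Cfsg.Agent.H837.Base23
end

-- part: H837/Width
section
set_option linter.all false
open scoped Cfsg.Agent.FastGrp

/-!
# The width of the set of transpositions of `Fi23` commuting with two non-commuting ones is 7 (helper837)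

* `width_eq` : computing `commutingWidth`; `width_image` : transport along an isomorphism;
* `width_pair` : the width of `{y ∈ T : [z0, y] = [j, y] = 1}` is 7;
* `closure_pair` : this set generates `CC = C(z0, j)`.
-/

set_option autoImplicit false
set_option linter.constructorNameAsVariable false

namespace Cfsg.Agent.H837.Width

open Cfsg Subgroup
open Cfsg.Agent.KFacts.FiTTh.BasDef Cfsg.Agent.KFacts.FiTTh.BasFi Cfsg.Agent.KFacts.FiTTh.BasChk
open Cfsg.Agent.LThreeFi23 Cfsg.Agent.Fischer.Fi23Hom
open Cfsg.Agent.Fischer.Fi23Z (z0)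
open Cfsg.Agent.H837.Base23
open Cfsg.Spor (Fi23)

/-! ### The width -/

theorem width_eq {G : Type*} [Group G] {D : Set G} {k : ℕ}
    (hle : ∀ E : Set G, E ⊆ D → E.Finite → (∀ a ∈ E, ∀ b ∈ E, Commute a b) → E.ncard ≤ k)
    (hex : ∃ E : Set G, E ⊆ D ∧ E.Finite ∧ (∀ a ∈ E, ∀ b ∈ E, Commute a b) ∧ E.ncard = k) :
    Cfsg.commutingWidth D = k := by
  unfold Cfsg.commutingWidth
  apply IsGreatest.csSup_eq
  refine ⟨hex, ?_⟩
  rintro n ⟨E, h1, h2, h3, rfl⟩
  exact hle E h1 h2 h3

/-- the width is attained and is the maximum (finite case) -/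
theorem width_spec {G : Type*} [Group G] [Finite G] {D : Set G} {k : ℕ} (h : Cfsg.commutingWidth D = k) :
    (∀ E : Set G, E ⊆ D → (∀ a ∈ E, ∀ b ∈ E, Commute a b) → E.ncard ≤ k) ∧
      ∃ E : Set G, E ⊆ D ∧ (∀ a ∈ E, ∀ b ∈ E, Commute a b) ∧ E.ncard = k := by
  set W := {n : ℕ | ∃ E : Set G, E ⊆ D ∧ E.Finite ∧ (∀ a ∈ E, ∀ b ∈ E, Commute a b) ∧ E.ncard = n} with hW
  have hbdd : BddAbove W := by
    refine ⟨Nat.card G, ?_⟩
    rintro n ⟨E, -, -, -, rfl⟩
    exact Set.ncard_le_card E
  have hne : W.Nonempty := ⟨0, ∅, by simp, by simp, by simp, by simp⟩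
  have hs : sSup W = k := h
  refine ⟨fun E h1 h2 => ?_, ?_⟩
  · rw [← hs]
    exact le_csSup hbdd ⟨E, h1, Set.toFinite E, h2, rfl⟩
  · have := Nat.sSup_mem hne hbdd
    rw [hs] at this
    obtain ⟨E, h1, -, h2, h3⟩ := this
    exact ⟨E, h1, h2, h3⟩

theorem width_image {G H : Type*} [Group G] [Group H] (e : G ≃* H) (D : Set G) :
    Cfsg.commutingWidth (e '' D) = Cfsg.commutingWidth D := by
  unfold Cfsg.commutingWidth
  congr 1
  ext n
  constructor
  · rintro ⟨E, h1, h2, h3, h4⟩
    refine ⟨e ⁻¹' E, ?_, h2.preimage e.injective.injOn, ?_, ?_⟩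
    · intro x hx
      obtain ⟨y, hy, hyx⟩ := h1 hx
      rwa [← e.injective hyx]
    · intro a ha b hb
      have := h3 _ ha _ hb
      have h5 : e (a * b) = e (b * a) := by rw [map_mul, map_mul]; exact this
      exact e.injective h5
    · rw [← h4, Set.ncard_preimage_of_injective_subset_range e.injective
        (fun y _ => e.surjective y)]
  · rintro ⟨E, h1, h2, h3, h4⟩
    refine ⟨e '' E, Set.image_mono h1, h2.image e, ?_, ?_⟩
    · rintro _ ⟨a, ha, rfl⟩ _ ⟨b, hb, rfl⟩
      exact (h3 a ha b hb).map e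
    · rw [Set.ncard_image_of_injective E e.injective, h4]

/-! ### `z0` and `j` -/

/-- the transpositions commuting with `z0` and `j` -/
def DP : Set Fi23 := {y | IsConj z0 y ∧ Commute (el .z) y ∧ Commute (el .j) y}

theorem ncomm_zj : ¬ Commute (el .z) (el .j) := by
  intro h
  exact Fischer.Fi23Class.z0_ncomm h

/-- the heptad of `j` -/
def hep : Finset (ZMod 23) := {0, 1, 2, 3, 5, 14, 17}

theorem heptad_chk : ∀ i ∈ hep, Nat.beq (ptw [.j] (lab (some i))) (lab (some i)) = true := by
  decide +kernel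

theorem comm_j {i : ZMod 23} (hi : i ∈ hep) : Commute (el .j) (e (some i)) := by
  have h1 := Nat.eq_of_beq_eq_true (heptad_chk i hi)
  rw [ptw_eq, elw_one] at h1
  rw [e_eq_T]
  exact (fix_iff _ (lab_lt i)).1 h1

theorem comm_z (i : ZMod 23) : Commute (el .z) (e (some i)) := by
  have h : el .z = e (some 13) := e_z.symm
  rw [h]
  exact e_comm _ _

/-- at most 7 of pairwise commuting transpositions commute with both members of a non-commuting pair -/
theorem ncard_le_seven {a d : Fi23} (ha : IsConj z0 a) (hd : IsConj z0 d) (hn : ¬ Commute a d) {E : Set Fi23}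
    (hE : ∀ y ∈ E, IsConj z0 y ∧ Commute a y ∧ Commute d y) (hc : ∀ s ∈ E, ∀ t ∈ E, Commute s t) :
    E.ncard ≤ 7 := by
  classical
  have hfin : Finite Fi23 := finG
  by_contra hlt
  rw [not_le] at hlt
  obtain ⟨g, hg⟩ := exists_conj_base (E := insert a E)
    (by
      rintro t (rfl | ht)
      · exact ha
      · exact (hE t ht).1)
    (by
      rintro s (rfl | hs) t (rfl | ht)
      · exact Commute.refl _
      · exact (hE t ht).2.1
      · exact (hE s hs).2.1.symm
      · exact hc s hs t ht)
  obtain ⟨i1, hi1⟩ := hg a (Set.mem_insert _ _)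
  have hch : ∀ t : Fi23, ∃ i : ZMod 23, t ∈ E → g * t * g⁻¹ = e (some i) := by
    intro t
    by_cases ht : t ∈ E
    · obtain ⟨i, hi⟩ := hg t (Set.mem_insert_of_mem _ ht)
      exact ⟨i, fun _ => hi⟩
    · exact ⟨0, fun h => absurd h ht⟩
  choose f hf using hch
  let S : Finset (ZMod 23) := Finset.univ.filter fun i => ∃ t ∈ E, g * t * g⁻¹ = e (some i)
  have hS : E.ncard ≤ S.card := by
    rw [← Set.ncard_coe_finset]
    apply Set.ncard_le_ncard_of_injOn f
    · intro t ht
      rw [Finset.mem_coe, Finset.mem_filter]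
      exact ⟨Finset.mem_univ _, t, ht, hf t ht⟩
    · intro s hs t ht hst
      have h1 := hf s hs
      rw [hst, ← hf t ht] at h1
      exact mul_left_cancel (mul_right_cancel h1)
  obtain ⟨i0, hi0⟩ := mem_base_of_eight (t := g * d * g⁻¹) (isConj_conj hd g) (S := S) (by omega)
    (by
      intro i hi
      obtain ⟨t, ht, hti⟩ := (Finset.mem_filter.1 hi).2
      rw [← hti]
      exact (show Commute ((MulAut.conj g) d) ((MulAut.conj g) t) from (hE t ht).2.2.map (MulAut.conj g)))
  apply hn
  have h2 : Commute (g * a * g⁻¹) (g * d * g⁻¹) := by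
    rw [hi1, hi0]
    exact e_comm _ _
  have h3 : (MulAut.conj g) a * (MulAut.conj g) d = (MulAut.conj g) d * (MulAut.conj g) a := h2
  rw [← map_mul, ← map_mul] at h3
  exact (MulAut.conj g).injective h3

theorem width_pair : Cfsg.commutingWidth DP = 7 := by
  apply width_eq
  · intro E hE _ hc
    exact ncard_le_seven (isConj_el .z) (isConj_el .j) ncomm_zj hE hc
  · refine ⟨(fun i => e (some i)) '' (hep : Set (ZMod 23)), ?_, ?_, ?_, ?_⟩
    · rintro _ ⟨i, hi, rfl⟩
      exact ⟨isConj_e i, comm_z i, comm_j (Finset.mem_coe.1 hi)⟩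
    · exact (Finset.finite_toSet hep).image _
    · rintro _ ⟨i, -, rfl⟩ _ ⟨j, -, rfl⟩
      exact e_comm _ _
    · rw [Set.ncard_image_of_injective _ (fun i j h => Option.some_injective _ (e_inj h)), Set.ncard_coe_finset]
      rfl

/-! ### The subgroup generated by `DP` -/

theorem closure_pair : Subgroup.closure DP = CC := by
  apply le_antisymm
  · rw [closure_le]
    rintro y ⟨-, h1, h2⟩
    exact mem_CC.2 ⟨h1.symm.eq, h2.symm.eq⟩
  · rw [← range_eq]
    unfold l8
    rw [Fischer.Y322.range_lift, closure_le]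
    rintro _ ⟨k, rfl⟩
    have h1 : lt8 k ≠ .z ∧ lt8 k ≠ .j ∧ lt8 k ≠ .g := by
      fin_cases k <;> decide
    exact subset_closure ⟨isConj_el _, z_comm_el _ h1.2.1, j_comm_el _ h1.1 h1.2.2⟩

end Cfsg.Agent.H837.Width
end
end
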