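import Cfsg.Agent.H661.SC.Fix
import Cfsg.Agent.H113.PSU.Rank3_m3
import Cfsg.Agent.H870.IMFiTwentyThree
import Cfsg.Agent.H492.IMPair_m3
import Cfsg.Agent.H94.IMCPerm_m3
import Cfsg.Agent.Prune
set_option linter.all false

section
prune_inst 0x7fbffffcbfaeffffdfff7e3fffd9dff813c2cffff6dffb43ffe9ebbfdfbf13b739ed6bad1de0f0ffce57e69610b87843fb7eeeffec6bdc7ffffd5ff41ffbee4ff5f7b78911d48c340f342fff03f377ee6f3ffffffffffffffffffffffffffffffffffbfeffff

-- part: H837/RankFix
section
prune_inst 0x400100000000000000022000000000000020040000020000000000000400000000000200012000208100000000811100000420000000a000000000000000000000080080000000000000000000000000000000000000000000000000000000000000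
set_option linter.all false
open scoped Cfsg.Agent.FastGrp

/-!
# Fixed vectors of `p`-subgroups in rank 3 permutation characters (helper837)

`R3 G X R k l` (rank 3 with a symmetric relation): the permutation character is `1 + χ₁ + χ₂`, belonging to the
eigenvalues `k`, `r`, `s` of the relation. If a `p`-subgroup `P` has no fixed vectors in `χ₁` then
`|X|` divides `(k - s) * |P|`.
-/

set_option autoImplicit false
set_option linter.unusedSectionVars false

namespace Cfsg.Agent.H837.RankFix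

open Cfsg Cfsg.Agent.Characters.Core Cfsg.Agent.H690.Spor.RankThree Cfsg.Agent.H625.SylConst
open scoped ComplexConjugate

/-- **Positivity.** The traces of a subgroup on an invariant hermitian idempotent kernel. -/
theorem sum_kernel_eq_zero {G X : Type*} [Group G] [MulAction G X] [Fintype X] (K : X → X → ℂ)
    (hinv : ∀ (g : G) x y, K (g • x) (g • y) = K x y) (hherm : ∀ x y, K y x = conj (K x y))
    (hid : ∀ x y, ∑ z, K x z * K z y = K x y) (P : Subgroup G) [Fintype P]
    (h : ∑ z : P, ∑ x, K x ((z : G) • x) = 0) (x : X) : ∑ z : P, K x ((z : G) • x) = 0 := by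
  have hP : (0 : ℝ) < Fintype.card P := by exact_mod_cast Fintype.card_pos
  -- the value at `x` is a nonnegative real number
  have key : ∀ x : X, (Fintype.card P : ℂ) * ∑ z : P, K x ((z : G) • x) =
      ((∑ y, Complex.normSq (∑ z : P, K y ((z : G) • x)) : ℝ) : ℂ) := by
    intro x
    have h1 : ∀ w : P, ∑ z : P, K ((w : G) • x) ((z : G) • x) = ∑ z : P, K x ((z : G) • x) := by
      intro w
      rw [← Equiv.sum_comp (Equiv.mulLeft w) fun z : P => K ((w : G) • x) ((z : G) • x)]
      refine Finset.sum_congr rfl fun z _ => ?_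
      rw [Equiv.coe_mulLeft, Subgroup.coe_mul, mul_smul, hinv]
    have h2 : (Fintype.card P : ℂ) * ∑ z : P, K x ((z : G) • x) =
        ∑ w : P, ∑ z : P, K ((w : G) • x) ((z : G) • x) := by
      rw [Finset.sum_congr rfl fun w _ => h1 w, Finset.sum_const, Finset.card_univ, nsmul_eq_mul]
    rw [h2]
    have h3 : ∀ w z : P, K ((w : G) • x) ((z : G) • x) =
        ∑ y, conj (K y ((w : G) • x)) * K y ((z : G) • x) := by
      intro w z
      rw [← hid]
      exact Finset.sum_congr rfl fun y _ => by rw [← hherm]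
    rw [Finset.sum_congr rfl fun w _ => Finset.sum_congr rfl fun z _ => h3 w z]
    have h4 : ∀ w : P, ∑ z : P, ∑ y, conj (K y ((w : G) • x)) * K y ((z : G) • x) =
        ∑ y, conj (K y ((w : G) • x)) * ∑ z : P, K y ((z : G) • x) := by
      intro w
      rw [Finset.sum_comm]
      exact Finset.sum_congr rfl fun y _ => by rw [Finset.mul_sum]
    rw [Finset.sum_congr rfl fun w _ => h4 w, Finset.sum_comm, Complex.ofReal_sum]
    refine Finset.sum_congr rfl fun y _ => ?_
    rw [← Finset.sum_mul, ← map_sum, Complex.normSq_eq_conj_mul_self]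
  have hF : ∀ x : X, (∑ z : P, K x ((z : G) • x)) =
      (((Fintype.card P : ℝ)⁻¹ * ∑ y, Complex.normSq (∑ z : P, K y ((z : G) • x)) : ℝ) : ℂ) := by
    intro x
    rw [Complex.ofReal_mul, ← key x, Complex.ofReal_inv, Complex.ofReal_natCast, ← mul_assoc, inv_mul_cancel₀, one_mul]
    exact_mod_cast Fintype.card_pos.ne'
  have hnn : ∀ x : X, 0 ≤ (Fintype.card P : ℝ)⁻¹ * ∑ y, Complex.normSq (∑ z : P, K y ((z : G) • x)) :=
    fun x => mul_nonneg (inv_nonneg.2 hP.le) (Finset.sum_nonneg fun y _ => Complex.normSq_nonneg _)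
  rw [Finset.sum_comm, Finset.sum_congr rfl fun x _ => hF x, ← Complex.ofReal_sum, Complex.ofReal_eq_zero,
    Finset.sum_eq_zero_iff_of_nonneg fun x _ => hnn x] at h
  rw [hF x, h x (Finset.mem_univ x), Complex.ofReal_zero]

variable {G X : Type*} [Group G] [MulAction G X] {R : X → X → Prop} {k l : ℕ}

section

variable [Fintype X] [DecidableEq X] [DecidableRel R]

open R3

theorem conj_adj (x y : X) : conj (adj R x y) = adj R x y := by
  unfold adj
  split_ifs <;> simp

theorem conj_dia (x y : X) : conj (dia x y) = dia x y := by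
  unfold dia
  split_ifs <;> simp

theorem dia_symm (x y : X) : dia x y = dia y x := by
  unfold dia
  simp only [eq_comm]

theorem ker_herm (h : R3 G X R k l) (n : ℕ) (r s : ℤ) (x y : X) :
    R3.ker R k n r s y x = conj (R3.ker R k n r s x y) := by
  unfold R3.ker
  rw [map_mul, map_inv₀, map_sub, map_sub, map_sub, map_mul, map_mul, map_sub, conj_adj, conj_dia, map_inv₀,
    h.adj_symm y x, dia_symm y x]
  simp

/-- the divisibility forced by a vanishing sum over a subgroup -/
theorem dvd_of_sum_eq_zero (h : R3 G X R k l) {a b : ℕ} (hab : ∀ x y, ∑ z, adj R x z * adj R z y =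
    (k - b : ℂ) * dia x y + (a - b : ℂ) * adj R x y + b) {r s : ℤ} (hrs : r ≠ s) (h1 : r + s = a - b)
    (h2 : r * s = b - k) (P : Subgroup G) [Fintype P]
    (h0 : ∑ z : P, ∑ x : X, R3.ker R k (Nat.card X) r s x ((z : G) • x) = 0) :
    ((1 + k + l : ℕ) : ℤ) ∣ (k - s) * Fintype.card P := by
  have hn := h.cardn
  have hne : Nonempty X := by
    rw [← Finite.card_pos_iff]
    omega
  obtain ⟨x⟩ := hne
  have hrsC : (r : ℂ) ≠ (s : ℂ) := by exact_mod_cast hrs
  have h1C : (r : ℂ) + s = a - b := by exact_mod_cast congrArg (Int.cast : ℤ → ℂ) h1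
  have h2C : (r : ℂ) * s = b - k := by exact_mod_cast congrArg (Int.cast : ℤ → ℂ) h2
  have h3 := sum_kernel_eq_zero (G := G) (R3.ker R k (Nat.card X) (r : ℂ) (s : ℂ)) (fun g x y => h.ker_smul _ _ _ g x y)
    (fun x y => ker_herm h _ r s x y) (h.ker_mul hab hrsC h1C h2C) P h0 x
  have hnC : (Nat.card X : ℂ) ≠ 0 := by
    have : Nat.card X ≠ 0 := by omega
    exact_mod_cast this
  obtain ⟨A, hA⟩ : ∃ A : ℕ, ∑ z : P, adj R x ((z : G) • x) = (A : ℂ) := by
    unfold adj
    rw [Finset.sum_boole]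
    exact ⟨_, rfl⟩
  obtain ⟨B, hB⟩ : ∃ B : ℕ, ∑ z : P, dia x ((z : G) • x) = (B : ℂ) := by
    unfold dia
    rw [Finset.sum_boole]
    exact ⟨_, rfl⟩
  unfold R3.ker at h3
  rw [← Finset.mul_sum, Finset.sum_sub_distrib, Finset.sum_sub_distrib, ← Finset.mul_sum, hA, hB, Finset.sum_const,
    Finset.card_univ, nsmul_eq_mul] at h3
  have h4 := (mul_eq_zero.1 h3).resolve_left (inv_ne_zero (sub_ne_zero.2 hrsC))
  have h5 : (Nat.card X : ℂ) * ((A : ℂ) - s * B) = (k - s) * Fintype.card P := by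
    have h6 : (Nat.card X : ℂ)⁻¹ * Nat.card X = 1 := inv_mul_cancel₀ hnC
    linear_combination (Nat.card X : ℂ) * h4 + (Fintype.card P : ℂ) * (k - s) * h6
  refine ⟨A - s * B, ?_⟩
  rw [hn] at h5
  have h7 : (((1 + k + l : ℕ) : ℤ) * ((A : ℤ) - s * B)) = (k - s) * (Fintype.card P : ℕ) := by exact_mod_cast h5
  rw [← h7]

/-- **Frame's theorem, rank 3**, with the eigenvalues. -/
theorem frame [Finite G] (h : R3 G X R k l)
    (hne : ∀ f D : ℕ, f + f = k + l → f * f * D ≠ (1 + k + l) * k * l) :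
    ∃ (a b : ℕ) (r s : ℤ) (χ₁ χ₂ : IrrCharacter G) (f g : ℕ),
    (∀ x y : X, ∑ z, adj R x z * adj R z y = (k - b : ℂ) * dia x y + (a - b : ℂ) * adj R x y + b) ∧
    k * k = k + k * a + l * b ∧ s < r ∧ r + s = a - b ∧ r * s = b - k ∧
    (χ₁ : G → ℂ) = (fun g : G => ∑ x : X, R3.ker R k (Nat.card X) r s x (g • x)) ∧
    (χ₂ : G → ℂ) = (fun g : G => ∑ x : X, R3.ker R k (Nat.card X) s r x (g • x)) ∧
    (χ₁ : G → ℂ) 1 = f ∧ (χ₂ : G → ℂ) 1 = g ∧ f + g = k + l ∧
    (f : ℤ) * (r - s) = -(s * (k + l) + k) ∧ (g : ℤ) * (r - s) = r * (k + l) + k := by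
  have := Fintype.ofFinite G
  obtain ⟨a, b, hab⟩ := h.exists_params
  have hp := h.params_eq hab
  have hn := h.cardn
  -- the discriminant
  set β : ℤ := (a : ℤ) - b with hβ
  set γ : ℤ := (k : ℤ) - b with hγ
  set N : ℤ := (k : ℤ) + l with hN
  have hpZ : (k : ℤ) * k = k + k * a + l * b := by exact_mod_cast hp
  have hI : (β ^ 2 + 4 * γ) * N ^ 2 = (β * N + 2 * k) ^ 2 + 4 * ((1 + k + l) * k * l) := by
    rw [hβ, hγ, hN]
    linear_combination (4 * ((k : ℤ) + l)) * hpZ
  have hk0 : (0 : ℤ) < k := by exact_mod_cast h.k0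
  have hl0 : (0 : ℤ) < l := by exact_mod_cast h.l0
  have hN0 : 0 < N := by omega
  have hpos : (0 : ℤ) < (1 + k + l) * k * l := by (clear * - hk0 hl0; positivity)
  have hD0 : 0 < β ^ 2 + 4 * γ := by
    have h1 : 0 < (β ^ 2 + 4 * γ) * N ^ 2 := by rw [hI]; linarith only [hpos, sq_nonneg (β * N + 2 * k)]
    by_contra hcon
    push Not at hcon
    nlinarith only [hI, hpos, hcon, sq_nonneg N]
  obtain ⟨D, hD⟩ : ∃ D : ℕ, (D : ℤ) = β ^ 2 + 4 * γ := ⟨(β ^ 2 + 4 * γ).toNat, Int.toNat_of_nonneg hD0.le⟩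
  obtain ⟨d, hdd⟩ : ∃ d : ℂ, d = ((Real.sqrt (D : ℝ) : ℝ) : ℂ) := ⟨_, rfl⟩
  have hd : d * d = (D : ℂ) := by
    rw [hdd, ← Complex.ofReal_mul, Real.mul_self_sqrt (Nat.cast_nonneg D), Complex.ofReal_natCast]
  have hd0 : d ≠ 0 := by
    rintro rfl
    have h1 : (D : ℂ) = 0 := by rw [← hd]; ring
    have h2 : D = 0 := by exact_mod_cast h1
    rw [h2] at hD
    omega
  set r : ℂ := (β + d) / 2 with hr
  set s : ℂ := (β - d) / 2 with hs
  have hrs : r - s = d := by rw [hr, hs]; ring
  have hrs' : r ≠ s := sub_ne_zero.1 (by rw [hrs]; exact hd0)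
  have hDC : (D : ℂ) = (β : ℂ) ^ 2 + 4 * γ := by exact_mod_cast congrArg (Int.cast : ℤ → ℂ) hD
  have h1 : r + s = a - b := by
    rw [hr, hs, hβ]
    push_cast
    ring
  have h2 : r * s = b - k := by
    have h3 : r * s = ((β : ℂ) ^ 2 - d * d) / 4 := by rw [hr, hs]; ring
    rw [h3, hd, hDC, hγ]
    push_cast
    ring
  -- the characters
  have hchar : ∀ u v : ℂ, u ≠ v → u + v = a - b → u * v = b - k →
      IsCharacter G (fun g : G => ∑ x : X, R3.ker R k (Nat.card X) u v x (g • x)) := by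
    intro u v huv h3 h4
    exact Cfsg.Agent.H651.isCharacter_sum_perm (MulAction.toPermHom G X) (R3.ker R k (Nat.card X) u v)
      (h.ker_mul hab huv h3 h4) (fun g x y => h.ker_smul _ u v g x y)
  have hc1 := hchar r s hrs' h1 h2
  have hc2 := hchar s r hrs'.symm (by rw [add_comm]; exact h1) (by rw [mul_comm]; exact h2)
  set θ₁ : G → ℂ := fun g : G => ∑ x : X, R3.ker R k (Nat.card X) r s x (g • x) with hθ₁
  set θ₂ : G → ℂ := fun g : G => ∑ x : X, R3.ker R k (Nat.card X) s r x (g • x) with hθ₂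
  have hnC : (Nat.card X : ℂ) ≠ 0 := by
    have : Nat.card X ≠ 0 := by omega
    exact_mod_cast this
  have hval : ∀ u v : ℂ, ∀ g : G, ∑ x : X, R3.ker R k (Nat.card X) u v x (g • x) =
      (u - v)⁻¹ * (∑ x : X, adj R x (g • x) - v * (Nat.card (MulAction.fixedBy X g) : ℂ) - (k - v)) := by
    intro u v g
    unfold R3.ker
    rw [← Finset.mul_sum, Finset.sum_sub_distrib, Finset.sum_sub_distrib, ← Finset.mul_sum, sum_dia_smul,
      Finset.sum_const, Finset.card_univ, ← Nat.card_eq_fintype_card, nsmul_eq_mul]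
    congr 2
    field_simp
  have hsum : (fun g : G => (Nat.card (MulAction.fixedBy X g) : ℂ) - 1) = θ₁ + θ₂ := by
    funext g
    show _ = θ₁ g + θ₂ g
    rw [hθ₁, hθ₂]
    simp only [hval]
    have h3 : (s - r)⁻¹ = -(r - s)⁻¹ := by rw [← neg_sub, inv_neg]
    rw [h3]
    have h4 : (r - s)⁻¹ * (r - s) = 1 := inv_mul_cancel₀ (by rw [hrs]; exact hd0)
    linear_combination (-(Nat.card (MulAction.fixedBy X g) : ℂ) + 1) * h4
  have hnorm := h.norm_two (G := G)
  rw [hsum, classInner_add_left, classInner_add_right, classInner_add_right] at hnorm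
  -- degrees
  have hone : ∑ x : X, adj R x ((1 : G) • x) = 0 := by
    refine Finset.sum_eq_zero fun x _ => ?_
    unfold adj
    rw [one_smul, if_neg (h.irr x)]
  have hfix1 : Nat.card (MulAction.fixedBy X (1 : G)) = Nat.card X := by
    rw [MulAction.fixedBy_one_eq_univ]
    exact Nat.card_univ
  have hn' : (Nat.card X : ℂ) = 1 + k + l := by exact_mod_cast hn
  have hdeg1 : θ₁ 1 * d = -(s * (k + l) + k) := by
    rw [hθ₁]
    simp only [hval]
    rw [hone, hfix1, hn', hrs]
    have h4 : d⁻¹ * d = 1 := inv_mul_cancel₀ hd0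
    linear_combination (0 - s * (1 + k + l) - (k - s)) * h4
  have hdeg2 : θ₂ 1 * d = r * (k + l) + k := by
    rw [hθ₂]
    simp only [hval]
    have h3 : (s - r)⁻¹ = -d⁻¹ := by rw [← neg_sub, inv_neg, hrs]
    rw [hone, hfix1, hn', h3]
    have h4 : d⁻¹ * d = 1 := inv_mul_cancel₀ hd0
    linear_combination (0 - (0 - r * (1 + k + l) - (k - r))) * h4
  obtain ⟨f, hf⟩ := isCharacter_apply_one hc1
  obtain ⟨g, hg⟩ := isCharacter_apply_one hc2
  have hpC : (k : ℂ) * k = k + k * a + l * b := by exact_mod_cast hp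
  have hprod : (f : ℂ) * g * D = (1 + k + l) * k * l := by
    rw [← hd, ← hf, ← hg]
    have h5 : θ₁ 1 * θ₂ 1 * (d * d) = (θ₁ 1 * d) * (θ₂ 1 * d) := by ring
    rw [h5, hdeg1, hdeg2]
    linear_combination (-(k + l : ℂ) ^ 2) * h2 - (k : ℂ) * (k + l) * h1 + (k + l : ℂ) * hpC
  have hprodN : f * g * D = (1 + k + l) * k * l := by exact_mod_cast hprod
  have hfg : f + g = k + l := by
    have h3 : ((f + g : ℕ) : ℂ) * d = ((k + l : ℕ) : ℂ) * d := by
      push_cast
      rw [← hf, ← hg]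
      linear_combination hdeg1 + hdeg2 + (k + l : ℂ) * hrs
    have h4 := mul_right_cancel₀ hd0 h3
    exact_mod_cast h4
  have hprod0 : 0 < (1 + k + l) * k * l := by
    have := h.k0
    have := h.l0
    positivity
  have hf0 : f ≠ 0 := by
    rintro rfl
    rw [zero_mul, zero_mul] at hprodN
    omega
  have hg0 : g ≠ 0 := by
    rintro rfl
    rw [mul_zero, zero_mul] at hprodN
    omega
  -- norms
  obtain ⟨m11, hm11⟩ := classInner_isNat hc1 hc1
  obtain ⟨m12, hm12⟩ := classInner_isNat hc1 hc2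
  obtain ⟨m21, hm21⟩ := classInner_isNat hc2 hc1
  obtain ⟨m22, hm22⟩ := classInner_isNat hc2 hc2
  rw [hm11, hm12, hm21, hm22] at hnorm
  have hnormN : m11 + m12 + (m21 + m22) = 2 := by exact_mod_cast hnorm
  have h11 : m11 ≠ 0 := by
    rintro rfl
    have h3 := classInner_self_eq_zero (φ := θ₁) (by rw [hm11]; simp)
    rw [h3] at hf
    apply hf0
    have : (f : ℂ) = 0 := by rw [← hf]; rfl
    exact_mod_cast this
  have h22 : m22 ≠ 0 := by
    rintro rfl
    have h3 := classInner_self_eq_zero (φ := θ₂) (by rw [hm22]; simp)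
    rw [h3] at hg
    apply hg0
    have : (g : ℂ) = 0 := by rw [← hg]; rfl
    exact_mod_cast this
  have hm1 : m11 = 1 := by omega
  have hm2 : m22 = 1 := by omega
  have hi1 : IsIrrCharacter G θ₁ := isIrr_of_classInner_self hc1 (by rw [hm11, hm1]; simp)
  have hi2 : IsIrrCharacter G θ₂ := isIrr_of_classInner_self hc2 (by rw [hm22, hm2]; simp)
  -- the discriminant is a square
  have hne' : f ≠ g := by
    rintro rfl
    exact hne f D hfg hprodN
  have h3 : ((f : ℂ) - g) * d = -(β * (k + l) + 2 * k) := by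
    rw [← hf, ← hg]
    have h4 : (β : ℂ) = r + s := by rw [hr, hs]; ring
    rw [h4]
    linear_combination hdeg1 - hdeg2
  have h5 : ((f : ℂ) - g) ^ 2 * D = (β * (k + l) + 2 * k) ^ 2 := by
    rw [← hd]
    have : ((f : ℂ) - g) ^ 2 * (d * d) = (((f : ℂ) - g) * d) ^ 2 := by ring
    rw [this, h3]
    ring
  have h6 : ((f : ℤ) - g) ^ 2 * D = (β * (k + l) + 2 * k) ^ 2 := by exact_mod_cast h5
  have h7 : ((f : ℤ) - g) ≠ 0 := by
    intro h8
    apply hne'
    omega
  have h8 : ((f : ℤ) - g) ∣ (β * (k + l) + 2 * k) := by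
    have h9 : ((f : ℤ) - g) ^ 2 ∣ (β * (k + l) + 2 * k) ^ 2 := ⟨_, h6.symm⟩
    exact (Int.pow_dvd_pow_iff (by norm_num)).1 h9
  obtain ⟨c, hc⟩ := h8
  rw [hc, mul_pow] at h6
  have h10 : (D : ℤ) = c ^ 2 := mul_left_cancel₀ (pow_ne_zero 2 h7) h6
  obtain ⟨e, he⟩ : ∃ e : ℕ, D = e * e := by
    refine ⟨c.natAbs, ?_⟩
    have h11 : (D : ℤ) = ((c.natAbs * c.natAbs : ℕ) : ℤ) := by
      rw [h10, Int.natAbs_mul_self]
      ring
    exact_mod_cast h11
  have hde : d = ((e : ℤ) : ℂ) := by
    rw [hdd, he, Nat.cast_mul, Real.sqrt_mul_self (Nat.cast_nonneg e)]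
    simp
  have heZ : (e : ℤ) * e = β ^ 2 + 4 * γ := by rw [← hD, he]; push_cast; ring
  obtain ⟨ρ, hρ⟩ : ∃ ρ : ℤ, β + e = 2 * ρ := by
    have h12 : (2 : ℤ) ∣ (β + e) := by
      have h13 : (2 : ℤ) ∣ (β + e) * (β + e) := by
        refine ⟨β ^ 2 + 2 * γ + β * e, ?_⟩
        linear_combination heZ
      rcases Int.prime_two.dvd_or_dvd h13 with h14 | h14 <;> exact h14
    exact h12
  have hrρ : r = (ρ : ℂ) := by
    have h12 : (β : ℂ) + (e : ℤ) = 2 * ρ := by exact_mod_cast congrArg (Int.cast : ℤ → ℂ) hρ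
    rw [hr, hde, h12]
    ring
  have hsρ : s = ((β - ρ : ℤ) : ℂ) := by
    have h12 : (β : ℂ) + (e : ℤ) = 2 * ρ := by exact_mod_cast congrArg (Int.cast : ℤ → ℂ) hρ
    rw [hs, hde]
    push_cast at h12 ⊢
    linear_combination (-1 / 2 : ℂ) * h12
  have hdeg1' : (f : ℤ) * (ρ - (β - ρ)) = -((β - ρ) * (k + l) + k) := by
    rw [hf, ← hrs, hrρ, hsρ] at hdeg1
    exact_mod_cast hdeg1
  have hdeg2' : (g : ℤ) * (ρ - (β - ρ)) = ρ * (k + l) + k := by
    rw [hg, ← hrs, hrρ, hsρ] at hdeg2
    exact_mod_cast hdeg2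
  have he0 : 0 < (e : ℤ) := by
    have : e ≠ 0 := by
      rintro rfl
      rw [hde] at hd0
      exact hd0 (by simp)
    omega
  refine ⟨a, b, ρ, β - ρ, ⟨θ₁, hi1⟩, ⟨θ₂, hi2⟩, f, g, hab, hp, by omega, by rw [hβ]; ring, ?_, ?_, ?_, hf, hg, hfg,
    hdeg1', hdeg2'⟩
  · have h12 := h2
    rw [hrρ, hsρ] at h12
    exact_mod_cast h12
  · show θ₁ = _
    rw [hθ₁, hrρ, hsρ]
  · show θ₂ = _
    rw [hθ₂, hrρ, hsρ]

theorem fixAll_of_not_dvd (h : R3 G X R k l) {a b : ℕ} (hab : ∀ x y : X, ∑ z, adj R x z * adj R z y =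
    (k - b : ℂ) * dia x y + (a - b : ℂ) * adj R x y + b) {r s : ℤ} (hrs : r ≠ s) (h1 : r + s = a - b)
    (h2 : r * s = b - k) {p : ℕ} [hp : Fact p.Prime] {m : ℕ} (hm : m ∣ 1 + k + l) (hmp : m.Coprime p)
    (hms : ¬ (m : ℤ) ∣ k - s) [Finite G] :
    H661.SC.FixAll p (fun g : G => ∑ x : X, R3.ker R k (Nat.card X) r s x (g • x)) := by
  intro P hP
  have := Fintype.ofFinite P
  rw [fix_iff]
  intro h0
  have h3 := dvd_of_sum_eq_zero h hab hrs h1 h2 P h0
  obtain ⟨j, hj⟩ := IsPGroup.iff_card.1 hP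
  rw [← Nat.card_eq_fintype_card, hj] at h3
  apply hms
  have h4 : (m : ℤ) ∣ (k - s) * ((p ^ j : ℕ) : ℤ) := (Int.natCast_dvd_natCast.2 hm).trans h3
  refine IsCoprime.dvd_of_dvd_mul_right ?_ h4
  exact_mod_cast (Nat.Coprime.pow_right j hmp).isCoprime

end

/-- **Criterion**: one of the two nontrivial constituents has degree divisible by `p` and fixed vectors for all
`p`-subgroups. -/
theorem exists_fixAll [Finite G] (h : R3 G X R k l)
    (hne : ∀ f D : ℕ, f + f = k + l → f * f * D ≠ (1 + k + l) * k * l) {p : ℕ} [hp : Fact p.Prime]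
    (H : ∀ (a b : ℕ) (r s : ℤ) (f g : ℕ), k * k = k + k * a + l * b → s < r → r + s = a - b → r * s = b - k →
      f + g = k + l → (f : ℤ) * (r - s) = -(s * (k + l) + k) → (g : ℤ) * (r - s) = r * (k + l) + k →
      (p ∣ f ∧ ∃ m : ℕ, m ∣ 1 + k + l ∧ m.Coprime p ∧ ¬ (m : ℤ) ∣ k - s) ∨
      (p ∣ g ∧ ∃ m : ℕ, m ∣ 1 + k + l ∧ m.Coprime p ∧ ¬ (m : ℤ) ∣ k - r)) :
    ∃ χ : IrrCharacter G, p ∣ charDegree (χ : G → ℂ) ∧ H661.SC.FixAll p (χ : G → ℂ) := by
  classical
  have hX : Finite X := by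
    apply Nat.finite_of_card_ne_zero
    rw [h.cardn]
    omega
  have := Fintype.ofFinite X
  obtain ⟨a, b, r, s, χ₁, h88⟩ := frame h hne
  revert h88; rintro ⟨χ₂, f, g, hab, h1, h88⟩
  revert h88; rintro ⟨h2, h3, h4, h5, h6, h88⟩
  revert h88; rintro ⟨h7, h8, h9, h10, h11⟩
  rcases H a b r s f g h1 h2 h3 h4 h9 h10 h11 with ⟨hd, m, hm1, hm2, hm3⟩ | ⟨hd, m, hm1, hm2, hm3⟩
  · refine ⟨χ₁, ?_, ?_⟩
    · rw [H670.PSing.charDegree_eq_of h7]
      exact hd
    · rw [h5]
      exact fixAll_of_not_dvd h hab h2.ne' h3 h4 hm1 hm2 hm3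
  · refine ⟨χ₂, ?_, ?_⟩
    · rw [H670.PSing.charDegree_eq_of h8]
      exact hd
    · rw [h6]
      exact fixAll_of_not_dvd h hab h2.ne (by rw [add_comm]; exact h3) (by rw [mul_comm]; exact h4) hm1 hm2 hm3

end Cfsg.Agent.H837.RankFix
end

-- part: H837/IMCFi23_mg
section
prune_inst 0x4000030050000020000040002400062815100009000008001410402040a0480200900280040800108000082800001004000000030000000000000040000010020808346022334080ca4000f800081190c00000000000000000000000000000000004010000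
set_option linter.all false
open scoped Cfsg.Agent.FastGrp

-- part: H837/IMCFi23
section
/-!
# S4526: the row `Fi₂₃` (helper837)

The rank 3 permutation character on the 31671 transpositions is `1 + 782 + 30888`; all `p`-subgroups have fixed
vectors in 782 for `p ≠ 3`, in 30888 for `p ≠ 17`. The primes 5 and 7 from `IM`.
-/

set_option autoImplicit false

namespace Cfsg.Agent.H837.IMCFi23

open Cfsg Cfsg.Agent.H837.RankFix Cfsg.Agent.H690.Spor.RankThree Cfsg.Agent.H625.SylConst
  Cfsg.Agent.H870.IMFi23 Cfsg.Agent.LThreeFi23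

universe u v

theorem params {a b : ℕ} {r s : ℤ} {f g : ℕ} (h1 : 3510 * 3510 = 3510 + 3510 * a + 28160 * b) (h2 : s < r)
    (h3 : r + s = a - b) (h4 : r * s = b - 3510) (h5 : f + g = 3510 + 28160)
    (h6 : (f : ℤ) * (r - s) = -(s * (3510 + 28160) + 3510)) : f = 782 ∧ g = 30888 ∧ r = 351 ∧ s = -9 := by
  have h8 : b % 351 = 0 := by omega
  obtain ⟨c, rfl⟩ : ∃ c, b = 351 * c := ⟨b / 351, by omega⟩
  have hsq : (r - s) * (r - s) = ((a : ℤ) - (351 * c : ℕ)) * (a - (351 * c : ℕ)) - 4 * (((351 * c : ℕ) : ℤ) - 3510) := by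
    rw [← h3, ← h4]
    ring
  have hc : c ≤ 1 := by omega
  have hpos : 0 < r - s := by omega
  interval_cases c
  · obtain rfl : a = 3509 := by omega
    norm_num at hsq h3 h4
    have h9 : r - s = 3511 := by nlinarith
    rw [h9] at h6
    omega
  · obtain rfl : a = 693 := by omega
    norm_num at hsq h3 h4
    have h9 : r - s = 360 := by nlinarith
    rw [h9] at h6
    omega

/-- **S4526, the row `Fi₂₃`.** -/
theorem imc_fi23 {S : Type u} [Group S] [Finite S] (h : Cfsg.Spor.IsoFi23 S) {p : ℕ} [hp : Fact p.Prime]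
    (hd : p ∣ Nat.card S) : IMC p S := by
  have him : H33.IM p S := im_fi23 h hd
  obtain ⟨e⟩ := h
  have hcard : Nat.card S = 4089470473293004800 := by rw [Nat.card_congr e.toEquiv, card_G]
  have hfin : Finite Spor.Fi23 := Finite.of_equiv S e.toEquiv
  obtain ⟨R, hR⟩ := exists_r3
  have hpr := hp.out
  rw [hcard] at hd
  have h5 : p ∣ 2 ^ 18 * 3 ^ 13 * 5 ^ 2 * 7 * 11 * 13 * 17 * 23 := by
    norm_num
    exact hd
  have key : p = 5 ∨ p = 7 ∨ (p ∣ 782 ∧ p ≠ 3) ∨ (p ∣ 30888 ∧ p ≠ 17) := by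
    have pw : ∀ {q n : ℕ}, q.Prime → p ∣ q ^ n → p = q := fun hq h =>
      (Nat.prime_dvd_prime_iff_eq hpr hq).1 (hpr.dvd_of_dvd_pow h)
    have pw' : ∀ {q : ℕ}, q.Prime → p ∣ q → p = q := fun hq h => (Nat.prime_dvd_prime_iff_eq hpr hq).1 h
    rcases hpr.dvd_mul.1 h5 with h5 | h5
    · rcases hpr.dvd_mul.1 h5 with h5 | h5
      · rcases hpr.dvd_mul.1 h5 with h5 | h5
        · rcases hpr.dvd_mul.1 h5 with h5 | h5
          · rcases hpr.dvd_mul.1 h5 with h5 | h5
            · rcases hpr.dvd_mul.1 h5 with h5 | h5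
              · rcases hpr.dvd_mul.1 h5 with h5 | h5
                · obtain rfl := pw (by norm_num) h5
                  exact Or.inr (Or.inr (Or.inl ⟨by norm_num, by norm_num⟩))
                · obtain rfl := pw (by norm_num) h5
                  exact Or.inr (Or.inr (Or.inr ⟨by norm_num, by norm_num⟩))
              · exact Or.inl (pw (by norm_num) h5)
            · exact Or.inr (Or.inl (pw' (by norm_num) h5))
          · obtain rfl := pw' (by norm_num) h5
            exact Or.inr (Or.inr (Or.inr ⟨by norm_num, by norm_num⟩))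
        · obtain rfl := pw' (by norm_num) h5
          exact Or.inr (Or.inr (Or.inr ⟨by norm_num, by norm_num⟩))
      · obtain rfl := pw' (by norm_num) h5
        exact Or.inr (Or.inr (Or.inl ⟨by norm_num, by norm_num⟩))
    · obtain rfl := pw' (by norm_num) h5
      exact Or.inr (Or.inr (Or.inl ⟨by norm_num, by norm_num⟩))
  rcases key with rfl | rfl | key
  · refine H661.SC.imc_of_IM ?_ him
    rw [hcard]
    norm_num
  · refine H661.SC.imc_of_IM ?_ him
    rw [hcard]
    norm_num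
  refine IMC.of_equiv e ?_
  obtain ⟨χ, h6, h7⟩ := exists_fixAll hR ne_half (p := p) (by
    intro a b r s f g h1 h2 h3 h4 h5 h6 _
    obtain ⟨rfl, rfl, rfl, rfl⟩ := params h1 h2 h3 h4 h5 h6
    rcases key with ⟨h7, h8⟩ | ⟨h7, h8⟩
    · exact Or.inl ⟨h7, 3 ^ 4, by norm_num,
        Nat.Coprime.pow_left 4 ((Nat.coprime_primes (by norm_num) hpr).2 (Ne.symm h8)), by norm_num⟩
    · exact Or.inr ⟨h7, 17, by norm_num, (Nat.coprime_primes (by norm_num) hpr).2 (Ne.symm h8), by norm_num⟩)
  exact h7.imc χ h6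

end Cfsg.Agent.H837.IMCFi23
end

-- part: H442/Imc/Pair
section
/-!
# Tools for the sporadic rows of S4526 (helper442)

The tools of `H492/IMPair.lean` with the conclusion `IMC p G`:

* `imc_of_cent_char` : `x` of order `p`, and `C_G(x)` has a character whose degree has the right `p`-part;
* `imc_of_cent_quot` : the case of a character of defect zero of a quotient of `C_G(x)`;
* `imc_of_pair` : `x`, `y` commute, generate a group of order `p ^ 2` which contains the centralizer of `⟨x, y⟩`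
  up to `p`-elements, and `|C_G(x)| = p ^ 2 * m`.
-/

set_option autoImplicit false

open Cfsg Cfsg.Agent.Characters.Core Cfsg.Agent.Blocks.Basic
open Cfsg.Agent.H713 Cfsg.Agent.H713.Count Cfsg.Agent.H33 Cfsg.Agent.H665.NoPQ
open Cfsg.Agent.H492.IMTools Cfsg.Agent.H625.SylConst Cfsg.Agent.H794.Imc

namespace Cfsg.Agent.H442.Imc

universe u v

variable {G : Type u} [Group G] {p : ℕ} [hp : Fact p.Prime]

theorem imc_of_cent_char [Finite G] {x : G} (hx : orderOf x = p) (hG : p ^ 2 ∣ Nat.card G)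
    (θ : IrrCharacter (Subgroup.centralizer ((Subgroup.zpowers x : Subgroup G) : Set G)))
    (hθ : (Nat.card (Subgroup.centralizer ({x} : Set G))).factorization p ≤
      (charDegree (θ : Subgroup.centralizer ((Subgroup.zpowers x : Subgroup G) : Set G) → ℂ)).factorization
        p + 1) : IMC p G := by
  have hD : IsPGroup p (Subgroup.zpowers x) := by
    apply IsPGroup.of_card (n := 1)
    rw [Nat.card_zpowers, hx, pow_one]
  have hle : Subgroup.zpowers x ≤
      Subgroup.centralizer ((Subgroup.zpowers x : Subgroup G) : Set G) := by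
    rw [centralizer_zpowers, Subgroup.zpowers_le]
    exact Subgroup.mem_centralizer_singleton_iff.2 rfl
  refine imc_of_local (Subgroup.zpowers x) hD ?_ θ ?_ ?_
  · have h1 := (Subgroup.zpowers x).card_mul_index
    rw [Nat.card_zpowers, hx] at h1
    rw [← h1, pow_two] at hG
    exact Nat.dvd_of_mul_dvd_mul_left hp.out.pos hG
  · have hcd : Nat.card (Subgroup.centralizer ((Subgroup.zpowers x : Subgroup G) : Set G)) =
        Nat.card (Subgroup.centralizer ({x} : Set G)) := by rw [centralizer_zpowers]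
    rw [inf_eq_left.2 hle, Nat.card_zpowers, hx, hp.out.factorization_self, hcd]
    exact hθ
  · rintro g hg ⟨k, hk⟩
    apply Subgroup.mem_sup_right
    rw [centralizer_zpowers]
    exact mem_centralizer_of_norm hx hg hk

/-- `C_G(x) / K` has a character of defect zero, and `|K|_p = p`. -/
theorem imc_of_cent_quot [Finite G] {x : G} (hx : orderOf x = p) (hG : p ^ 2 ∣ Nat.card G)
    {H : Type v} [Group H] (f : Subgroup.centralizer ({x} : Set G) →* H)
    (hf : Function.Surjective f)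
    (hH : (Nat.card (Subgroup.centralizer ({x} : Set G))).factorization p ≤
      (Nat.card H).factorization p + 1) (h : HasDZ p H) : IMC p G := by
  obtain ⟨χ, hχ⟩ := h
  have e : Subgroup.centralizer ((Subgroup.zpowers x : Subgroup G) : Set G) ≃*
      Subgroup.centralizer ({x} : Set G) := MulEquiv.subgroupCongr (centralizer_zpowers x)
  have hfe : Function.Surjective (f.comp e.toMonoidHom) := hf.comp e.surjective
  refine imc_of_cent_char hx hG ⟨(χ : H → ℂ) ∘ (f.comp e.toMonoidHom),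
    isIrr_comp (f.comp e.toMonoidHom) hfe χ.2⟩ ?_
  have h2 : charDegree ((χ : H → ℂ) ∘ (f.comp e.toMonoidHom)) = charDegree (χ : H → ℂ) := by
    unfold charDegree
    rw [Function.comp_apply, map_one]
  show _ ≤ (charDegree ((χ : H → ℂ) ∘ (f.comp e.toMonoidHom))).factorization p + 1
  rw [h2, hχ]
  exact hH

/-- **T3 for two commuting elements of order `p`.** -/
theorem imc_of_pair [Finite G] {x y : G} (hx : orderOf x = p) (hy : orderOf y = p)
    (hcomm : y * x = x * y) (hyx : y ∉ Subgroup.zpowers x)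
    (hxy : ∀ q : ℕ, q.Prime → q ≠ p →
      ¬ q ∣ Nat.card ↥(Subgroup.centralizer ({x} : Set G) ⊓ Subgroup.centralizer ({y} : Set G)))
    {m : ℕ} (hC : Nat.card (Subgroup.centralizer ({x} : Set G)) = p ^ 2 * m) (hpm : ¬ p ∣ m)
    (s : Finset ℕ) (hs : ∀ n ∈ s, ¬ p ∣ n ∧ ∃ g : G, g * x = x * g ∧ orderOf g = n)
    (hcard : m % p ∣ p - 1 → m % p < s.card) : IMC p G := by
  classical
  set C := Subgroup.centralizer ({x} : Set G) with hCdef
  have hG : p ^ 2 ∣ Nat.card G :=
    (Dvd.intro m hC.symm).trans (Subgroup.card_subgroup_dvd_card C)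
  set z : C := ⟨x, Subgroup.mem_centralizer_singleton_iff.2 rfl⟩ with hz
  set y' : C := ⟨y, Subgroup.mem_centralizer_singleton_iff.2 hcomm⟩ with hy'
  have hzo : orderOf z = p := by rw [hz, Subgroup.orderOf_mk, hx]
  have hyo : orderOf y' = p := by rw [hy', Subgroup.orderOf_mk, hy]
  have hzc : ∀ c : C, c * z = z * c := fun c =>
    Subtype.ext (Subgroup.mem_centralizer_singleton_iff.1 c.2)
  have hnorm : (Subgroup.zpowers z).Normal := by
    refine ⟨fun n hn g => ?_⟩
    obtain ⟨k, rfl⟩ := hn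
    have : g * z ^ k * g⁻¹ = z ^ k := by
      rw [((show Commute g z from hzc g).zpow_right k).eq, mul_inv_cancel_right]
    show g * z ^ k * g⁻¹ ∈ _
    rw [this]
    exact ⟨k, rfl⟩
  have hm : m ≠ 0 := by rintro rfl; exact hpm (dvd_zero _)
  -- the quotient
  have hH : Nat.card (C ⧸ Subgroup.zpowers z) = p * m := by
    have h1 := Subgroup.card_eq_card_quotient_mul_card_subgroup (Subgroup.zpowers z)
    rw [hC, Nat.card_zpowers, hzo] at h1
    have h2 : p * (p * m) = p * Nat.card (C ⧸ Subgroup.zpowers z) := by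
      rw [mul_comm p (Nat.card _), ← h1]; ring
    exact (Nat.eq_of_mul_eq_mul_left hp.out.pos h2).symm
  have hHf : (Nat.card (C ⧸ Subgroup.zpowers z)).factorization p = 1 := by
    rw [hH, Nat.factorization_mul hp.out.ne_zero hm, Finsupp.add_apply,
      hp.out.factorization_self, Nat.factorization_eq_zero_of_not_dvd hpm]
  have hyb : orderOf (QuotientGroup.mk y' : C ⧸ Subgroup.zpowers z) = p := by
    apply orderOf_eq_prime
    · have : (QuotientGroup.mk y' : C ⧸ Subgroup.zpowers z) ^ p = QuotientGroup.mk (y' ^ p) := rfl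
      rw [this, ← hyo, pow_orderOf_eq_one]
      rfl
    · intro h
      rw [QuotientGroup.eq_one_iff] at h
      obtain ⟨k, hk⟩ := h
      apply hyx
      refine ⟨k, ?_⟩
      have := congrArg Subtype.val hk
      exact this
  have hq : ∀ q : ℕ, q.Prime → q ≠ p → ¬ q ∣ Nat.card (Subgroup.centralizer ({y'} : Set C)) := by
    intro q hq hne hd
    refine hxy q hq hne (hd.trans (dvd_of_eq ?_))
    apply Nat.card_congr
    refine
      { toFun := fun c => ⟨c.1.1, c.1.2, ?_⟩
        invFun := fun c => ⟨⟨c.1, c.2.1⟩, ?_⟩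
        left_inv := fun _ => rfl
        right_inv := fun _ => rfl }
    · have h1 := Subgroup.mem_centralizer_singleton_iff.1 c.2
      exact Subgroup.mem_centralizer_singleton_iff.2 (congrArg Subtype.val h1)
    · rw [Subgroup.mem_centralizer_singleton_iff]
      exact Subtype.ext (Subgroup.mem_centralizer_singleton_iff.1 c.2.2)
  have hpg := isPGroup_centralizer_mk (p := p) (by rw [← hzo]; exact pow_orderOf_eq_one z) hzc hq
  have hcb : Nat.card (Subgroup.centralizer
      ({(QuotientGroup.mk y' : C ⧸ Subgroup.zpowers z)} : Set (C ⧸ Subgroup.zpowers z))) = p := by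
    obtain ⟨k, hk⟩ := IsPGroup.iff_card.1 hpg
    have h1 : p ∣ p ^ k := by
      rw [← hk, ← hyb, ← Subgroup.orderOf_mk _ (Subgroup.mem_centralizer_singleton_iff.2 rfl)]
      exact orderOf_dvd_natCard _
    have h2 : p ^ k ∣ p * m := by rw [← hk, ← hH]; exact Subgroup.card_subgroup_dvd_card _
    have h3 : k = 1 := by
      rcases Nat.lt_trichotomy k 1 with h | h | h
      · have : k = 0 := by omega
        rw [this, pow_zero] at h1
        exact absurd (Nat.le_of_dvd one_pos h1) (by have := hp.out.one_lt; omega)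
      · exact h
      · exfalso
        apply hpm
        have h4 : p ^ 2 ∣ p * m := (pow_dvd_pow p h).trans h2
        rw [pow_two] at h4
        exact Nat.dvd_of_mul_dvd_mul_left hp.out.pos h4
    rw [hk, h3, pow_one]
  have hdiv : Nat.card (C ⧸ Subgroup.zpowers z) / p = m := by
    rw [hH, Nat.mul_div_cancel_left _ hp.out.pos]
  have hlt : m % p < s.card := by
    apply hcard
    have h1 := card_fus_eq hHf hyb (c := 1) (by rw [hcb, mul_one]) (e := m % p) (by
      intro k hk h
      rw [mul_one, hdiv, Nat.mod_eq_of_lt hk] at h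
      exact h)
    exact Dvd.intro _ h1.2
  refine imc_of_cent_quot hx hG (QuotientGroup.mk' (Subgroup.zpowers z))
    (QuotientGroup.mk'_surjective _) ?_ (hasDZ_of_orders hHf hyb hcb s ?_ (by rw [hdiv]; exact hlt))
  · rw [← hCdef, hHf, hC, Nat.factorization_mul (pow_ne_zero _ hp.out.ne_zero) hm,
      Finsupp.add_apply, Nat.factorization_eq_zero_of_not_dvd hpm, hp.out.factorization_pow,
      Finsupp.single_eq_same]
  · intro n hn
    obtain ⟨h1, g, hg, hgn⟩ := hs n hn
    refine ⟨h1, QuotientGroup.mk ⟨g, Subgroup.mem_centralizer_singleton_iff.2 hg⟩, ?_⟩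
    set g' : C := ⟨g, Subgroup.mem_centralizer_singleton_iff.2 hg⟩ with hg'
    have hgo : orderOf g' = n := by rw [hg', Subgroup.orderOf_mk, hgn]
    have h2 : orderOf (QuotientGroup.mk g' : C ⧸ Subgroup.zpowers z) ∣ n := by
      rw [← hgo]
      exact orderOf_map_dvd (QuotientGroup.mk' (Subgroup.zpowers z)) g'
    apply Nat.dvd_antisymm h2
    set o := orderOf (QuotientGroup.mk g' : C ⧸ Subgroup.zpowers z) with ho
    have h3 : g' ^ o ∈ Subgroup.zpowers z := by
      rw [← QuotientGroup.eq_one_iff]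
      have : (QuotientGroup.mk (g' ^ o) : C ⧸ Subgroup.zpowers z) =
        (QuotientGroup.mk g' : C ⧸ Subgroup.zpowers z) ^ o := rfl
      rw [this, ho, pow_orderOf_eq_one]
    have h4 : (g' ^ o) ^ p = 1 := by
      obtain ⟨k, hk⟩ := h3
      rw [← hk]
      show (z ^ k) ^ p = 1
      rw [← zpow_natCast, ← zpow_mul, mul_comm, zpow_mul, zpow_natCast, ← hzo, pow_orderOf_eq_one,
        one_zpow]
    rw [← pow_mul] at h4
    have h5 := orderOf_dvd_of_pow_eq_one h4
    rw [hgo] at h5
    have hcop : Nat.Coprime n p := by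
      rw [Nat.coprime_comm, Nat.Prime.coprime_iff_not_dvd hp.out]; exact h1
    exact hcop.dvd_of_dvd_mul_right h5

end Cfsg.Agent.H442.Imc
end
end
end
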